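import Cfsg.Agent.Mrg.Omega.S5.Def
import Cfsg.Agent.Mrg.Omega.FrameI
import Cfsg.Agent.Mrg.Omega.ML.MinIrr
import Cfsg.Agent.MinSimple.VModule
import Cfsg.Agent.Lib.SylowNormalInf

section


/-!
# THEOREM R1 (helper430 #22327, referee helper42 #22750; helper62 #22855 (3')): the abstract frame

`V` is a line on the point `z = ε (single 0 1)` (the letter `oo` is `0`), `W = U_z`.  For a set `Γ` of letters

* `VG ε Γ` : the vectors of `V` which are constant on `Γ`; `YG ε Γ = C_G(V_Γ)`; `UG V ε Γ = ⟨V^{Y_Γ}⟩`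
  (`Γ = {i,j}` : `l_ij`, `X_ij`, canonical `W_ij`; `Γ = {i,j,k}` : `l_Γ`, `Y`, `U_Γ`);
* `Ln V ε W` : the facts on a line on `z` (no level, no `J`);
* `Best W A` : `A` acts on `W` as a minimal best offender;
* `Goo V ε W A Γ` : `[W, A] ≤ U_Γ`.
-/

set_option autoImplicit false

namespace Cfsg.Agent.Omega.NO3S.SN.R1

open Subgroup Cfsg Cfsg.Agent.ZN Cfsg.Agent.Omega.S5.Def
open Cfsg.Agent.Omega.FFThm (ElemM)

universe u

section defs

variable {G : Type u} [Group G]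

/-- `⟨V^R⟩` -/
def Cl (V R : Subgroup G) : Subgroup G := closure {x | ∃ g ∈ R, ∃ w ∈ V, x = g * w * g⁻¹}

variable {n : ℕ}

/-- constant on `Γ` -/
def Cst (Γ : Finset (Fin n)) (x : Fin n → ZMod 2) : Prop := ∀ i ∈ Γ, ∀ j ∈ Γ, x i = x j

/-- `V_Γ` -/
def VG (ε : (Fin n → ZMod 2) → G) (Γ : Finset (Fin n)) : Subgroup G := closure {v | ∃ x, Cst Γ x ∧ ε x = v}

/-- `Y_Γ = C_G(V_Γ)` -/
def YG (ε : (Fin n → ZMod 2) → G) (Γ : Finset (Fin n)) : Subgroup G := centralizer (VG ε Γ : Set G)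

/-- `U_Γ = ⟨V^{Y_Γ}⟩` -/
def UG (V : Subgroup G) (ε : (Fin n → ZMod 2) → G) (Γ : Finset (Fin n)) : Subgroup G := Cl V (YG ε Γ)

/-- the heavy vector `z_i` -/
def zz (ε : (Fin n → ZMod 2) → G) (i : Fin n) : G := ε (Pi.single i 1)

/-- the facts on a line `V` on the point `z = z_0` -/
structure Ln [NeZero n] (V : Subgroup G) (ε : (Fin n → ZMod 2) → G) (W : Subgroup G) : Prop where
  n5 : 5 ≤ n
  ev : EvenSet n V (normalizer (V : Set G)) ε
  VW : V ≤ W
  Wn : centralizer ({zz ε 0} : Set G) ≤ normalizer (W : Set G)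
  Wc : ∀ a ∈ W, ∀ b ∈ W, a * b = b * a
  Ws : ∀ a ∈ W, a * a = 1
  /-- fusion of the heavy vectors in `V` -/
  fus : ∀ (i : Fin n) (g : G), g * zz ε i * g⁻¹ ∈ V → ∃ j, g * zz ε i * g⁻¹ = zz ε j
  /-- (B2) -/
  syl : ∀ Γ : Finset (Fin n), 0 ∉ Γ → ∃ T : Subgroup G, T ≤ YG ε Γ ∧ T ≤ normalizer (V : Set G) ∧ IsPGroup 2 T ∧
    ¬ 2 ∣ T.relIndex (YG ε Γ)
  kg : IsKGroup (centralizer ({zz ε 0} : Set G))

/-- `A` acts on `W` as a minimal best offender: `|W : C_W(A)| ≤ |A : C_A(W)|`, and `|C_W(B) : C_W(A)| < |A : B|` for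
`C_A(W) < B < A`. -/
structure Best (W A : Subgroup G) : Prop where
  el : ElemM W A
  ne : ¬ A ≤ centralizer (W : Set G)
  off : (centralizer (A : Set G)).relIndex W ≤ (centralizer (W : Set G)).relIndex A
  min : ∀ B : Subgroup G, A ⊓ centralizer (W : Set G) < B → B < A →
    (centralizer (A : Set G)).relIndex (W ⊓ centralizer (B : Set G)) < B.relIndex A

/-- `[W, A] ≤ U_Γ` -/
def Goo (V : Subgroup G) (ε : (Fin n → ZMod 2) → G) (W A : Subgroup G) (Γ : Finset (Fin n)) : Prop :=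
  ∀ a ∈ A, ∀ w ∈ W, a * w * a⁻¹ * w⁻¹ ∈ UG V ε Γ

end defs

end Cfsg.Agent.Omega.NO3S.SN.R1

end

section


/-!
# THEOREM R2 (helper695, bb #24008): the relative frame

`V` is a line on the point `z = ε (single 0 1)` (the letter `oo` is `0`), notation of `R1/Def.lean`.

* `PM V ε k = M^(k) = ⟨C_{N(V)}(z_k), X_ij : k ∉ {i,j}⟩`, `M = PM V ε 0`, `W = ⟨V^M⟩`;
* `PY V ε Γ = ⟨N(V) ∩ Y_Γ, X_ij : i, j ∈ Γ⟩`, `PU V ε Γ = ⟨V^{PY Γ}⟩`; `WI V ε i j = ⟨V^{X_ij}⟩`;
* `cε g ε` : the labels of the line `V^g`;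
* `Fr V W ε` : the frame; `Fr.conj` : it holds for all lines `V^m`, `m ∈ M`;
* `fW W A = |A| |C_W(A)|`, `At W A` : `A ≥ C_G(W)` acts on `W` as an atom; `NOv W P` : no over-offender above `C_G(W)` in `P`.
-/

set_option autoImplicit false

namespace Cfsg.Agent.Omega.NO3S.SN.RTwo

open Subgroup Cfsg Cfsg.Agent.ZN Cfsg.Agent.Omega.S5.Def
open Cfsg.Agent.Omega.NO3S.SN.R1 (Cl Cst VG YG zz)
open Cfsg.Agent.Omega.FFThm (ElemM)
open scoped Pointwise

universe u

variable {G : Type u} [Group G] {n : ℕ}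

/-- `M^(k)` -/
def PM (V : Subgroup G) (ε : (Fin n → ZMod 2) → G) (k : Fin n) : Subgroup G :=
  closure ({g | g ∈ normalizer (V : Set G) ∧ g * zz ε k * g⁻¹ = zz ε k} ∪
    {g | ∃ i j, i ≠ k ∧ j ≠ k ∧ i ≠ j ∧ g ∈ YG ε {i, j}})

/-- `Y_Γ`, relative -/
def PY (V : Subgroup G) (ε : (Fin n → ZMod 2) → G) (Γ : Finset (Fin n)) : Subgroup G :=
  closure ({g | g ∈ normalizer (V : Set G) ∧ g ∈ YG ε Γ} ∪ {g | ∃ i ∈ Γ, ∃ j ∈ Γ, i ≠ j ∧ g ∈ YG ε {i, j}})

/-- `U_Γ`, relative -/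
def PU (V : Subgroup G) (ε : (Fin n → ZMod 2) → G) (Γ : Finset (Fin n)) : Subgroup G := Cl V (PY V ε Γ)

/-- `W_ij = ⟨V^{X_ij}⟩` -/
def WI (V : Subgroup G) (ε : (Fin n → ZMod 2) → G) (i j : Fin n) : Subgroup G := Cl V (YG ε {i, j})

/-- the labels of `V^g` -/
def cε (g : G) (ε : (Fin n → ZMod 2) → G) : (Fin n → ZMod 2) → G := fun x => g * ε x * g⁻¹

/-! ### Conjugation -/

theorem mem_cj {g x : G} {A : Subgroup G} : x ∈ MulAut.conj g • A ↔ g⁻¹ * x * g ∈ A := by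
  rw [mem_pointwise_smul_iff_inv_smul_mem]
  simp [MulAut.smul_def]

theorem cj_mem {g x : G} {A : Subgroup G} (h : x ∈ A) : g * x * g⁻¹ ∈ MulAut.conj g • A := by
  rw [mem_cj]
  have h1 : g⁻¹ * (g * x * g⁻¹) * g = x := by group
  rwa [h1]

theorem cj_eq_of_mem {g : G} {A : Subgroup G} (h : g ∈ normalizer (A : Set G)) : MulAut.conj g • A = A := by
  ext x
  rw [mem_cj, mem_normalizer_iff.1 h (g⁻¹ * x * g)]
  have h1 : g * (g⁻¹ * x * g) * g⁻¹ = x := by group
  rw [h1]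

theorem mem_norm_of_cj {g : G} {A : Subgroup G} (h : MulAut.conj g • A = A) : g ∈ normalizer (A : Set G) := by
  rw [mem_normalizer_iff]
  intro x
  constructor
  · intro hx
    rw [← h]
    exact cj_mem hx
  · intro hx
    rw [← h, mem_cj] at hx
    have h1 : g⁻¹ * (g * x * g⁻¹) * g = x := by group
    rwa [h1] at hx

theorem cj_mono {g : G} {A B : Subgroup G} (h : A ≤ B) : MulAut.conj g • A ≤ MulAut.conj g • B := by
  intro x hx
  rw [mem_cj] at hx ⊢
  exact h hx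

theorem cj_cj {g h : G} {A : Subgroup G} : MulAut.conj g • MulAut.conj h • A = MulAut.conj (g * h) • A := by
  rw [smul_smul, map_mul]

theorem cj_inv_cj {g : G} {A : Subgroup G} : MulAut.conj g⁻¹ • MulAut.conj g • A = A := by
  rw [cj_cj, inv_mul_cancel, map_one, one_smul]

theorem cj_cj_inv {g : G} {A : Subgroup G} : MulAut.conj g • MulAut.conj g⁻¹ • A = A := by
  rw [cj_cj, mul_inv_cancel, map_one, one_smul]

theorem cj_normalizer (g : G) (A : Subgroup G) :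
    normalizer ((MulAut.conj g • A : Subgroup G) : Set G) = MulAut.conj g • normalizer (A : Set G) := by
  ext x
  rw [mem_cj]
  constructor
  · intro h
    have h1 := cj_eq_of_mem h
    apply mem_norm_of_cj
    rw [cj_cj] at h1
    have h2 : MulAut.conj g⁻¹ • (MulAut.conj (x * g) • A) = MulAut.conj g⁻¹ • MulAut.conj g • A := by rw [h1]
    rw [cj_cj, cj_inv_cj] at h2
    rwa [← mul_assoc] at h2
  · intro h
    have h1 := cj_eq_of_mem h
    apply mem_norm_of_cj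
    rw [cj_cj]
    have h2 : MulAut.conj g • (MulAut.conj (g⁻¹ * x * g) • A) = MulAut.conj g • A := by rw [h1]
    rw [cj_cj] at h2
    have h3 : g * (g⁻¹ * x * g) = x * g := by group
    rwa [h3] at h2

theorem cj_centralizer (g : G) (s : Set G) :
    centralizer ((fun x => g * x * g⁻¹) '' s) = MulAut.conj g • centralizer s := by
  ext x
  rw [mem_cj, mem_centralizer_iff, mem_centralizer_iff]
  constructor
  · intro h y hy
    have h1 := h _ ⟨y, hy, rfl⟩
    calc y * (g⁻¹ * x * g) = g⁻¹ * (g * y * g⁻¹ * x) * g := by group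
      _ = g⁻¹ * (x * (g * y * g⁻¹)) * g := by rw [h1]
      _ = g⁻¹ * x * g * y := by group
  · rintro h _ ⟨y, hy, rfl⟩
    have h1 := h y hy
    calc g * y * g⁻¹ * x = g * (y * (g⁻¹ * x * g)) * g⁻¹ := by group
      _ = g * (g⁻¹ * x * g * y) * g⁻¹ := by rw [h1]
      _ = x * (g * y * g⁻¹) := by group

theorem cj_coe (g : G) (A : Subgroup G) :
    ((MulAut.conj g • A : Subgroup G) : Set G) = (fun x => g * x * g⁻¹) '' (A : Set G) := by
  ext x
  constructor
  · intro h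
    exact ⟨g⁻¹ * x * g, mem_cj.1 h, by group⟩
  · rintro ⟨y, hy, rfl⟩
    exact cj_mem hy

theorem cj_centralizer' (g : G) (A : Subgroup G) :
    centralizer ((MulAut.conj g • A : Subgroup G) : Set G) = MulAut.conj g • centralizer (A : Set G) := by
  rw [cj_coe, cj_centralizer]

theorem cj_closure (g : G) (s : Set G) :
    MulAut.conj g • closure s = closure ((fun x => g * x * g⁻¹) '' s) := by
  apply le_antisymm
  · intro x hx
    rw [mem_cj] at hx
    have h1 : closure s ≤ MulAut.conj g⁻¹ • closure ((fun x => g * x * g⁻¹) '' s) := by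
      rw [closure_le]
      intro y hy
      rw [SetLike.mem_coe, mem_cj, inv_inv]
      exact subset_closure ⟨y, hy, rfl⟩
    have h2 := h1 hx
    rw [mem_cj, inv_inv] at h2
    have h3 : g * (g⁻¹ * x * g) * g⁻¹ = x := by group
    rwa [h3] at h2
  · rw [closure_le]
    rintro _ ⟨y, hy, rfl⟩
    exact cj_mem (subset_closure hy)

theorem cj_Cl (g : G) (V R : Subgroup G) : Cl (MulAut.conj g • V) (MulAut.conj g • R) = MulAut.conj g • Cl V R := by
  rw [Cl, Cl, cj_closure]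
  congr 1
  ext x
  constructor
  · rintro ⟨r, hr, w, hw, rfl⟩
    rw [mem_cj] at hr hw
    refine ⟨_, ⟨_, hr, _, hw, rfl⟩, ?_⟩
    change g * (g⁻¹ * r * g * (g⁻¹ * w * g) * (g⁻¹ * r * g)⁻¹) * g⁻¹ = r * w * r⁻¹
    group
  · rintro ⟨_, ⟨r, hr, w, hw, rfl⟩, rfl⟩
    refine ⟨g * r * g⁻¹, cj_mem hr, g * w * g⁻¹, cj_mem hw, ?_⟩
    change g * (r * w * r⁻¹) * g⁻¹ = _
    group

theorem cj_VG (g : G) (ε : (Fin n → ZMod 2) → G) (Γ : Finset (Fin n)) :
    VG (cε g ε) Γ = MulAut.conj g • VG ε Γ := by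
  rw [VG, VG, cj_closure]
  congr 1
  ext x
  constructor
  · rintro ⟨v, hv, rfl⟩
    exact ⟨_, ⟨v, hv, rfl⟩, rfl⟩
  · rintro ⟨_, ⟨v, hv, rfl⟩, rfl⟩
    exact ⟨v, hv, rfl⟩

theorem cj_YG (g : G) (ε : (Fin n → ZMod 2) → G) (Γ : Finset (Fin n)) :
    YG (cε g ε) Γ = MulAut.conj g • YG ε Γ := by
  rw [YG, YG, cj_VG, cj_centralizer']

theorem cj_zz (g : G) (ε : (Fin n → ZMod 2) → G) (k : Fin n) : zz (cε g ε) k = g * zz ε k * g⁻¹ := rfl

theorem cj_PM (g : G) (V : Subgroup G) (ε : (Fin n → ZMod 2) → G) (k : Fin n) :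
    PM (MulAut.conj g • V) (cε g ε) k = MulAut.conj g • PM V ε k := by
  rw [PM, PM, cj_closure]
  congr 1
  ext x
  constructor
  · rintro (⟨h1, h2⟩ | ⟨i, j, hi, hj, hij, h⟩)
    · refine ⟨g⁻¹ * x * g, Or.inl ⟨?_, ?_⟩, by change g * (g⁻¹ * x * g) * g⁻¹ = x; group⟩
      · rwa [cj_normalizer, mem_cj] at h1
      · rw [cj_zz] at h2
        calc g⁻¹ * x * g * zz ε k * (g⁻¹ * x * g)⁻¹ = g⁻¹ * (x * (g * zz ε k * g⁻¹) * x⁻¹) * g := by group
          _ = g⁻¹ * (g * zz ε k * g⁻¹) * g := by rw [h2]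
          _ = zz ε k := by group
    · rw [cj_YG, mem_cj] at h
      exact ⟨g⁻¹ * x * g, Or.inr ⟨i, j, hi, hj, hij, h⟩, by change g * (g⁻¹ * x * g) * g⁻¹ = x; group⟩
  · rintro ⟨y, (⟨h1, h2⟩ | ⟨i, j, hi, hj, hij, h⟩), rfl⟩
    · left
      refine ⟨?_, ?_⟩
      · rw [cj_normalizer]
        exact cj_mem h1
      · rw [cj_zz]
        change g * y * g⁻¹ * (g * zz ε k * g⁻¹) * (g * y * g⁻¹)⁻¹ = _
        calc g * y * g⁻¹ * (g * zz ε k * g⁻¹) * (g * y * g⁻¹)⁻¹ = g * (y * zz ε k * y⁻¹) * g⁻¹ := by group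
          _ = _ := by rw [h2]
    · right
      refine ⟨i, j, hi, hj, hij, ?_⟩
      rw [cj_YG]
      exact cj_mem h

theorem cj_PY (g : G) (V : Subgroup G) (ε : (Fin n → ZMod 2) → G) (Γ : Finset (Fin n)) :
    PY (MulAut.conj g • V) (cε g ε) Γ = MulAut.conj g • PY V ε Γ := by
  rw [PY, PY, cj_closure]
  congr 1
  ext x
  constructor
  · rintro (⟨h1, h2⟩ | ⟨i, hi, j, hj, hij, h⟩)
    · rw [cj_normalizer, mem_cj] at h1
      rw [cj_YG, mem_cj] at h2
      exact ⟨g⁻¹ * x * g, Or.inl ⟨h1, h2⟩, by change g * (g⁻¹ * x * g) * g⁻¹ = x; group⟩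
    · rw [cj_YG, mem_cj] at h
      exact ⟨g⁻¹ * x * g, Or.inr ⟨i, hi, j, hj, hij, h⟩, by change g * (g⁻¹ * x * g) * g⁻¹ = x; group⟩
  · rintro ⟨y, (⟨h1, h2⟩ | ⟨i, hi, j, hj, hij, h⟩), rfl⟩
    · left
      refine ⟨?_, ?_⟩
      · rw [cj_normalizer]
        exact cj_mem h1
      · rw [cj_YG]
        exact cj_mem h2
    · right
      refine ⟨i, hi, j, hj, hij, ?_⟩
      rw [cj_YG]
      exact cj_mem h

theorem cj_PU (g : G) (V : Subgroup G) (ε : (Fin n → ZMod 2) → G) (Γ : Finset (Fin n)) :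
    PU (MulAut.conj g • V) (cε g ε) Γ = MulAut.conj g • PU V ε Γ := by
  rw [PU, PU, cj_PY, cj_Cl]

theorem cj_WI (g : G) (V : Subgroup G) (ε : (Fin n → ZMod 2) → G) (i j : Fin n) :
    WI (MulAut.conj g • V) (cε g ε) i j = MulAut.conj g • WI V ε i j := by
  rw [WI, WI, cj_YG, cj_Cl]

/-! ### Relabelling -/

/-- `V_Γ` after a relabelling by `σ` -/
theorem VG_rel (ε : (Fin n → ZMod 2) → G) (σ : Equiv.Perm (Fin n)) (Γ : Finset (Fin n)) :
    VG (fun x => ε (x ∘ σ.symm)) Γ = VG ε (Γ.map σ.toEmbedding) := by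
  rw [VG, VG]
  congr 1
  ext v
  constructor
  · rintro ⟨x, hx, rfl⟩
    refine ⟨x ∘ σ.symm, ?_, rfl⟩
    intro i hi j hj
    rw [Finset.mem_map] at hi hj
    obtain ⟨i, hi, rfl⟩ := hi
    obtain ⟨j, hj, rfl⟩ := hj
    simpa using hx i hi j hj
  · rintro ⟨x, hx, rfl⟩
    refine ⟨x ∘ σ, ?_, ?_⟩
    · intro i hi j hj
      exact hx _ (Finset.mem_map_of_mem _ hi) _ (Finset.mem_map_of_mem _ hj)
    · change ε ((x ∘ σ) ∘ σ.symm) = ε x
      congr 1
      funext i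
      simp

theorem YG_rel (ε : (Fin n → ZMod 2) → G) (σ : Equiv.Perm (Fin n)) (Γ : Finset (Fin n)) :
    YG (fun x => ε (x ∘ σ.symm)) Γ = YG ε (Γ.map σ.toEmbedding) := by
  rw [YG, YG, VG_rel]

theorem YG_rel_pair (ε : (Fin n → ZMod 2) → G) (σ : Equiv.Perm (Fin n)) (i j : Fin n) :
    YG (fun x => ε (x ∘ σ.symm)) {i, j} = YG ε {σ i, σ j} := by
  rw [YG_rel]
  congr 1
  ext k
  simp [eq_comm]

theorem zz_rel (ε : (Fin n → ZMod 2) → G) (σ : Equiv.Perm (Fin n)) (k : Fin n) :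
    zz (fun x => ε (x ∘ σ.symm)) k = zz ε (σ k) := by
  rw [zz, zz]
  congr 1
  funext j
  by_cases hj : j = σ k
  · subst hj
    simp
  · have h1 : σ.symm j ≠ k := fun h0 => hj (by rw [← h0, Equiv.apply_symm_apply])
    simp [Function.comp, hj, h1]

theorem PM_rel (V : Subgroup G) (ε : (Fin n → ZMod 2) → G) (σ : Equiv.Perm (Fin n)) (k : Fin n) :
    PM V (fun x => ε (x ∘ σ.symm)) k = PM V ε (σ k) := by
  rw [PM, PM, zz_rel]
  congr 2
  ext g
  constructor
  · rintro ⟨i, j, hi, hj, hij, h⟩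
    rw [YG_rel_pair] at h
    exact ⟨σ i, σ j, fun h0 => hi (σ.injective h0), fun h0 => hj (σ.injective h0),
      fun h0 => hij (σ.injective h0), h⟩
  · rintro ⟨i, j, hi, hj, hij, h⟩
    refine ⟨σ.symm i, σ.symm j, fun h0 => hi ?_, fun h0 => hj ?_, fun h0 => hij (σ.symm.injective h0), ?_⟩
    · rw [← h0, Equiv.apply_symm_apply]
    · rw [← h0, Equiv.apply_symm_apply]
    · rw [YG_rel_pair, Equiv.apply_symm_apply, Equiv.apply_symm_apply]
      exact h

theorem PY_rel (V : Subgroup G) (ε : (Fin n → ZMod 2) → G) (σ : Equiv.Perm (Fin n)) (Γ : Finset (Fin n)) :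
    PY V (fun x => ε (x ∘ σ.symm)) Γ = PY V ε (Γ.map σ.toEmbedding) := by
  rw [PY, PY, YG_rel]
  congr 2
  ext g
  constructor
  · rintro ⟨i, hi, j, hj, hij, h⟩
    rw [YG_rel_pair] at h
    exact ⟨σ i, Finset.mem_map_of_mem _ hi, σ j, Finset.mem_map_of_mem _ hj, fun h0 => hij (σ.injective h0), h⟩
  · rintro ⟨i, hi, j, hj, hij, h⟩
    rw [Finset.mem_map] at hi hj
    obtain ⟨i, hi, rfl⟩ := hi
    obtain ⟨j, hj, rfl⟩ := hj
    refine ⟨i, hi, j, hj, fun h0 => hij (by rw [h0]), ?_⟩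
    rw [YG_rel_pair]
    exact h

theorem PU_rel (V : Subgroup G) (ε : (Fin n → ZMod 2) → G) (σ : Equiv.Perm (Fin n)) (Γ : Finset (Fin n)) :
    PU V (fun x => ε (x ∘ σ.symm)) Γ = PU V ε (Γ.map σ.toEmbedding) := by
  rw [PU, PU, PY_rel]

theorem WI_rel (V : Subgroup G) (ε : (Fin n → ZMod 2) → G) (σ : Equiv.Perm (Fin n)) (i j : Fin n) :
    WI V (fun x => ε (x ∘ σ.symm)) i j = WI V ε (σ i) (σ j) := by
  rw [WI, WI, YG_rel_pair]

theorem cε_acts {ε : (Fin n → ZMod 2) → G} {g : G} {σ : Equiv.Perm (Fin n)} (h : Acts ε g σ) :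
    cε g ε = fun x => ε (x ∘ σ.symm) := funext h

/-- `M^(k)^g = M^(σ k)` for `g ∈ N(V)` acting as `σ` -/
theorem cj_PM_acts {V : Subgroup G} {ε : (Fin n → ZMod 2) → G} {g : G} {σ : Equiv.Perm (Fin n)}
    (hg : g ∈ normalizer (V : Set G)) (h : Acts ε g σ) (k : Fin n) :
    MulAut.conj g • PM V ε k = PM V ε (σ k) := by
  rw [← cj_PM, cj_eq_of_mem hg, cε_acts h, PM_rel]

theorem cj_PU_acts {V : Subgroup G} {ε : (Fin n → ZMod 2) → G} {g : G} {σ : Equiv.Perm (Fin n)}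
    (hg : g ∈ normalizer (V : Set G)) (h : Acts ε g σ) (Γ : Finset (Fin n)) :
    MulAut.conj g • PU V ε Γ = PU V ε (Γ.map σ.toEmbedding) := by
  rw [← cj_PU, cj_eq_of_mem hg, cε_acts h, PU_rel]

theorem cj_WI_acts {V : Subgroup G} {ε : (Fin n → ZMod 2) → G} {g : G} {σ : Equiv.Perm (Fin n)}
    (hg : g ∈ normalizer (V : Set G)) (h : Acts ε g σ) (i j : Fin n) :
    MulAut.conj g • WI V ε i j = WI V ε (σ i) (σ j) := by
  rw [← cj_WI, cj_eq_of_mem hg, cε_acts h, WI_rel]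

/-! ### The frame -/

/-- The frame. -/
structure Fr [NeZero n] (V W : Subgroup G) (ε : (Fin n → ZMod 2) → G) : Prop where
  n5 : 5 ≤ n
  nodd : Odd n
  ev : EvenSet n V (normalizer (V : Set G)) ε
  Weq : W = Cl V (PM V ε 0)
  Wc : ∀ a ∈ W, ∀ b ∈ W, a * b = b * a
  Ws : ∀ a ∈ W, a * a = 1
  /-- `V ≤ Z(O₂(M))` -/
  Qc : o2 (PM V ε 0) ≤ centralizer (V : Set G)
  /-- `O₂(M / C(W)) = 1` -/
  o2M : ∀ A : Subgroup G, A ≤ PM V ε 0 → PM V ε 0 ≤ normalizer (A : Set G) →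
    (∀ a ∈ A, ∃ k : ℕ, a ^ 2 ^ k ∈ centralizer (W : Set G)) → A ≤ centralizer (W : Set G)
  /-- fusion of the heavy vectors in `V` -/
  fus : ∀ (i : Fin n) (g : G), g * zz ε i * g⁻¹ ∈ V → ∃ j, g * zz ε i * g⁻¹ = zz ε j
  /-- (B2) -/
  syl : ∀ Γ : Finset (Fin n), 0 ∉ Γ → ∃ T : Subgroup G, T ≤ YG ε Γ ∧ T ≤ normalizer (V : Set G) ∧ IsPGroup 2 T ∧
    ¬ 2 ∣ T.relIndex (YG ε Γ)
  /-- (CV) -/
  cv : ∀ T : Subgroup G, T ≤ centralizer (V : Set G) → IsPGroup 2 T → ¬ 2 ∣ T.relIndex (centralizer (V : Set G)) →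
    W ⊓ centralizer (T : Set G) ≤ V
  kg : IsKGroup (centralizer ({zz ε 0} : Set G))

/-- `|A| |C_W(A)|` -/
noncomputable def fW (W A : Subgroup G) : ℕ := Nat.card A * Nat.card ↥(W ⊓ centralizer (A : Set G))

/-- `A ≥ C_G(W)` acts on `W` as an atom (minimal exact elementary abelian group) -/
structure At (W A : Subgroup G) : Prop where
  le : centralizer (W : Set G) ≤ A
  ne : ¬ A ≤ centralizer (W : Set G)
  el : ElemM W A
  tight : fW W A = Nat.card ↥(centralizer (W : Set G)) * Nat.card W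
  min : ∀ B : Subgroup G, centralizer (W : Set G) < B → B < A →
    fW W B < Nat.card ↥(centralizer (W : Set G)) * Nat.card W

/-- `(NO)` for the elementary abelian groups between `C_G(W)` and `P` -/
def NOv (W P : Subgroup G) : Prop :=
  ∀ B : Subgroup G, centralizer (W : Set G) ≤ B → B ≤ P → ElemM W B →
    fW W B ≤ Nat.card ↥(centralizer (W : Set G)) * Nat.card W

/-- `QQ_k(V)`: the full preimage of the image of `O₂(M^(k))` -/
def QQ (V W : Subgroup G) (ε : (Fin n → ZMod 2) → G) (k : Fin n) : Subgroup G :=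
  o2 (PM V ε k) ⊔ centralizer (W : Set G)

/-- `P_ij(V)`: the full preimage of the image of `O₂(C(W_ij))` -/
def PP (V W : Subgroup G) (ε : (Fin n → ZMod 2) → G) (i j : Fin n) : Subgroup G :=
  o2 (centralizer (WI V ε i j : Set G)) ⊔ centralizer (W : Set G)

/-- `E_1 ≤ O₂(C(V))` modulo `C(W)` -/
def OV (V W : Subgroup G) : Subgroup G := o2 (centralizer (V : Set G)) ⊔ centralizer (W : Set G)

end Cfsg.Agent.Omega.NO3S.SN.RTwo

end

section


/-!
# THEOREM R1 (helper430 #22327): elementary facts on `Cl`, `V_Γ`, `Y_Γ = C_G(V_Γ)`, `U_Γ = ⟨V^{Y_Γ}⟩`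
-/

set_option autoImplicit false

namespace Cfsg.Agent.Omega.NO3S.SN.R1

open Subgroup Cfsg Cfsg.Agent.ZN Cfsg.Agent.Omega.S5.Def
open Cfsg.Agent.Omega.FFThm (ElemM)
open Cfsg.Agent.MinSimple.VModule

universe u

variable {G : Type u} [Group G]

/-! ### `Cl` -/

section Cl

theorem Cl_le {V R U : Subgroup G} (hV : V ≤ U) (hR : R ≤ normalizer (U : Set G)) : Cl V R ≤ U := by
  rw [Cl, closure_le]
  rintro _ ⟨g, hg, w, hw, rfl⟩
  exact (mem_normalizer_iff.1 (hR hg) w).1 (hV hw)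

theorem le_Cl (V R : Subgroup G) : V ≤ Cl V R := fun v hv => subset_closure ⟨1, one_mem _, v, hv, by group⟩

theorem conj_mem_Cl {V R : Subgroup G} {g v : G} (hg : g ∈ R) (hv : v ∈ V) : g * v * g⁻¹ ∈ Cl V R :=
  subset_closure ⟨g, hg, v, hv, rfl⟩

theorem Cl_mono {V R S : Subgroup G} (h : R ≤ S) : Cl V R ≤ Cl V S :=
  closure_mono fun _ ⟨g, hg, w, hw, he⟩ => ⟨g, h hg, w, hw, he⟩

theorem le_normalizer_Cl (V R : Subgroup G) : R ≤ normalizer (Cl V R : Set G) := by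
  have key : ∀ g ∈ R, ∀ x ∈ Cl V R, g * x * g⁻¹ ∈ Cl V R := by
    intro g hg x hx
    have h1 : (Cl V R).map (MulAut.conj g).toMonoidHom ≤ Cl V R := by
      rw [Cl, MonoidHom.map_closure, closure_le]
      rintro _ ⟨_, ⟨k, hk, w, hw, rfl⟩, rfl⟩
      refine subset_closure ⟨g * k, mul_mem hg hk, w, hw, ?_⟩
      change g * (k * w * k⁻¹) * g⁻¹ = g * k * w * (g * k)⁻¹
      group
    exact h1 ⟨x, hx, rfl⟩
  intro g hg
  rw [mem_normalizer_iff]
  refine fun x => ⟨key g hg x, fun hx => ?_⟩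
  have h2 := key g⁻¹ (inv_mem hg) _ hx
  have e : g⁻¹ * (g * x * g⁻¹) * g⁻¹⁻¹ = x := by group
  rwa [e] at h2

end Cl

/-! ### `VG`, `YG` -/

section VG

variable {n : ℕ} {V : Subgroup G} {L : Subgroup G} {ε : (Fin n → ZMod 2) → G}

theorem Cst.add {Γ : Finset (Fin n)} {x y : Fin n → ZMod 2} (hx : Cst Γ x) (hy : Cst Γ y) : Cst Γ (x + y) := by
  intro i hi j hj
  rw [Pi.add_apply, Pi.add_apply, hx i hi j hj, hy i hi j hj]

theorem Cst.mono {Γ Δ : Finset (Fin n)} (h : Γ ⊆ Δ) {x : Fin n → ZMod 2} (hx : Cst Δ x) : Cst Γ x :=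
  fun i hi j hj => hx i (h hi) j (h hj)

theorem cst_zero (Γ : Finset (Fin n)) : Cst Γ (0 : Fin n → ZMod 2) := fun _ _ _ _ => rfl

theorem cst_one (Γ : Finset (Fin n)) : Cst Γ (1 : Fin n → ZMod 2) := fun _ _ _ _ => rfl

theorem cst_single {Γ : Finset (Fin n)} {m : Fin n} (hm : m ∉ Γ) : Cst Γ (Pi.single m 1 : Fin n → ZMod 2) := by
  intro i hi j hj
  have h1 : i ≠ m := fun e => hm (e ▸ hi)
  have h2 : j ≠ m := fun e => hm (e ▸ hj)
  rw [Pi.single_eq_of_ne h1, Pi.single_eq_of_ne h2]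

theorem mem_VG (ev : EvenSet n V L ε) {Γ : Finset (Fin n)} {v : G} :
    v ∈ VG ε Γ ↔ ∃ x, Cst Γ x ∧ ε x = v := by
  constructor
  · intro hv
    refine closure_induction (p := fun y _ => ∃ x, Cst Γ x ∧ ε x = y) ?_ ?_ ?_ ?_ hv
    · rintro y ⟨x, hx, rfl⟩
      exact ⟨x, hx, rfl⟩
    · exact ⟨0, cst_zero Γ, ev.zero⟩
    · rintro _ _ _ _ ⟨x, hx, rfl⟩ ⟨y, hy, rfl⟩
      exact ⟨x + y, hx.add hy, ev.add x y⟩
    · rintro _ _ ⟨x, hx, rfl⟩
      exact ⟨x, hx, (ev.inv x).symm⟩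
  · rintro ⟨x, hx, rfl⟩
    exact subset_closure ⟨x, hx, rfl⟩

theorem mem_VG_iff (ev : EvenSet n V L ε) {Γ : Finset (Fin n)} {x : Fin n → ZMod 2} :
    ε x ∈ VG ε Γ ↔ Cst Γ x := by
  rw [mem_VG ev]
  constructor
  · rintro ⟨y, hy, he⟩
    rcases ev.eq_iff.1 he with h1 | h1
    · rwa [← h1]
    · have h2 : x = y + 1 := by rw [h1, add_assoc, add_self, add_zero]
      rw [h2]
      exact hy.add (cst_one Γ)
  · exact fun h => ⟨x, h, rfl⟩

theorem VG_le (ev : EvenSet n V L ε) (Γ : Finset (Fin n)) : VG ε Γ ≤ V := by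
  intro v hv
  obtain ⟨x, -, rfl⟩ := (mem_VG ev).1 hv
  exact ev.mem x

theorem VG_anti (ε : (Fin n → ZMod 2) → G) {Γ Δ : Finset (Fin n)} (h : Γ ⊆ Δ) : VG ε Δ ≤ VG ε Γ :=
  closure_mono fun _ ⟨x, hx, he⟩ => ⟨x, hx.mono h, he⟩

theorem YG_mono (ε : (Fin n → ZMod 2) → G) {Γ Δ : Finset (Fin n)} (h : Γ ⊆ Δ) : YG ε Γ ≤ YG ε Δ :=
  centralizer_le (VG_anti ε h)

theorem UG_mono (V : Subgroup G) (ε : (Fin n → ZMod 2) → G) {Γ Δ : Finset (Fin n)} (h : Γ ⊆ Δ) :
    UG V ε Γ ≤ UG V ε Δ := Cl_mono (YG_mono ε h)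

theorem mem_YG (ev : EvenSet n V L ε) {Γ : Finset (Fin n)} {g : G} :
    g ∈ YG ε Γ ↔ ∀ x, Cst Γ x → g * ε x * g⁻¹ = ε x := by
  unfold YG
  rw [mem_centralizer_iff]
  constructor
  · intro h x hx
    rw [← h _ ((mem_VG_iff ev).2 hx), mul_inv_cancel_right]
  · intro h v hv
    obtain ⟨x, hx, rfl⟩ := (mem_VG ev).1 hv
    calc ε x * g = g * ε x * g⁻¹ * g := by rw [h x hx]
      _ = g * ε x := by group

theorem centralizer_le_YG (ev : EvenSet n V L ε) (Γ : Finset (Fin n)) : centralizer (V : Set G) ≤ YG ε Γ :=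
  centralizer_le (VG_le ev Γ)

/-- a permutation of the letters in `Γ` is induced by an element of `C_G(V_Γ)` -/
theorem mem_YG_of_acts (ev : EvenSet n V L ε) {Γ : Finset (Fin n)} {g : G} {σ : Equiv.Perm (Fin n)}
    (hσ : Acts ε g σ) (hf : ∀ m, m ∉ Γ → σ m = m) : g ∈ YG ε Γ := by
  rw [mem_YG ev]
  intro x hx
  rw [hσ x]
  congr 1
  have hf' : ∀ m, m ∉ Γ → σ.symm m = m := by
    intro m hm
    rw [Equiv.symm_apply_eq, hf m hm]
  funext m
  change x (σ.symm m) = x m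
  by_cases hm : m ∈ Γ
  · have h1 : σ.symm m ∈ Γ := by
      by_contra h2
      have h3 := hf _ h2
      rw [Equiv.apply_symm_apply] at h3
      rw [← h3] at h2
      exact h2 hm
    exact hx _ h1 _ hm
  · rw [hf' m hm]

/-- an element of `C_G(V_Γ)` which normalises `V` permutes the letters in `Γ` -/
theorem acts_fix (ev : EvenSet n V L ε) (hn : 3 ≤ n) {Γ : Finset (Fin n)} {g : G} {σ : Equiv.Perm (Fin n)}
    (hσ : Acts ε g σ) (hg : g ∈ YG ε Γ) {m : Fin n} (hm : m ∉ Γ) : σ m = m := by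
  refine ev.single_inj hn ?_
  rw [← hσ.single]
  exact (mem_YG ev).1 hg _ (cst_single hm)

/-- the only heavy vector of `z_k V_Γ` is `z_k` -/
theorem eq_of_mem_VG (ev : EvenSet n V L ε) {Γ : Finset (Fin n)} (hΓ : 3 ≤ Γ.card) {m k : Fin n} (hk : k ∈ Γ)
    (h : zz ε m * zz ε k ∈ VG ε Γ) : m = k := by
  by_contra hne
  have h1 : zz ε m * zz ε k = ε (Pi.single m 1 + Pi.single k 1) := (ev.add _ _).symm
  rw [h1, mem_VG_iff ev] at h
  obtain ⟨l, hl, hl2⟩ : ∃ l ∈ Γ, l ∉ ({m, k} : Finset (Fin n)) :=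
    Finset.exists_mem_notMem_of_card_lt_card (lt_of_le_of_lt Finset.card_le_two (by omega))
  simp only [Finset.mem_insert, Finset.mem_singleton, not_or] at hl2
  have h2 := h k hk l hl
  rw [Pi.add_apply, Pi.add_apply, Pi.single_eq_same, Pi.single_eq_of_ne (Ne.symm hne), Pi.single_eq_of_ne hl2.1,
    Pi.single_eq_of_ne hl2.2] at h2
  simp at h2

end VG

end Cfsg.Agent.Omega.NO3S.SN.R1

end

section


/-!
# THEOREM R1 (helper430 #22327), step (2)

`A` a minimal best offender on `W` inside `O₂(C_G(V))`; if `A` centralises `U_ij` and moves `U_ik`, then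
`[W, A] ≤ U_ijk`, `W = U_ijk C_W(A)` and `C_A(U_ijk) = C_A(W)`.

(ML) is applied to `Y = C_G(V_Γ)` on `U_Γ / V_Γ`, `Γ = {i,j,k}`, with the vector `z_k V_Γ`, whose stabiliser in `Y` is
`C_G(V_ij)`.
-/

set_option autoImplicit false
set_option linter.unusedSectionVars false

namespace Cfsg.Agent.Omega.NO3S.SN.R1

open Subgroup Cfsg Cfsg.Agent.ZN Cfsg.Agent.Omega.S5.Def
open Cfsg.Agent.Omega.FFThm (ElemM)
open Cfsg.Agent.MinSimple.VModule

universe u

variable {G : Type u} [Group G]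

section labels

variable {n : ℕ} {V : Subgroup G} {L : Subgroup G} {ε : (Fin n → ZMod 2) → G}

theorem zmod2 (c : ZMod 2) : c = 0 ∨ c = 1 := by
  revert c
  decide

/-- `V_ij = V_ijk ⟨z_k⟩` -/
theorem mem_YG_pair (ev : EvenSet n V L ε) {i j k : Fin n} (hij : i ≠ j) (hik : i ≠ k) (hjk : j ≠ k) {g : G}
    (hg : g ∈ YG ε {i, j, k}) (hz : g * zz ε k * g⁻¹ = zz ε k) : g ∈ YG ε {i, j} := by
  rw [mem_YG ev]
  intro x hx
  have hxij : x i = x j := hx i (by simp) j (by simp)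
  rcases eq_or_ne (x k) (x i) with h1 | h1
  · refine (mem_YG ev).1 hg x ?_
    intro a ha b hb
    simp only [Finset.mem_insert, Finset.mem_singleton] at ha hb
    have hv : ∀ c, (c = i ∨ c = j ∨ c = k) → x c = x i := by
      rintro c (rfl | rfl | rfl)
      · rfl
      · exact hxij.symm
      · exact h1
    rw [hv a ha, hv b hb]
  · have h2 : Cst {i, j, k} (x + Pi.single k 1) := by
      intro a ha b hb
      simp only [Finset.mem_insert, Finset.mem_singleton] at ha hb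
      have hv : ∀ c, (c = i ∨ c = j ∨ c = k) → (x + Pi.single k 1 : Fin n → ZMod 2) c = x i := by
        rintro c (rfl | rfl | rfl)
        · rw [Pi.add_apply, Pi.single_eq_of_ne hik, add_zero]
        · rw [Pi.add_apply, Pi.single_eq_of_ne hjk, add_zero]
          exact hxij.symm
        · rw [Pi.add_apply, Pi.single_eq_same]
          rcases zmod2 (x c) with h3 | h3 <;> rcases zmod2 (x i) with h4 | h4
          · exact absurd (h3.trans h4.symm) h1
          · rw [h3, h4]; rfl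
          · rw [h3, h4]; rfl
          · exact absurd (h3.trans h4.symm) h1
      rw [hv a ha, hv b hb]
    have h3 := (mem_YG ev).1 hg _ h2
    rw [ev.add] at h3
    have h4 : g * (ε x * zz ε k) * g⁻¹ = g * ε x * g⁻¹ * (g * zz ε k * g⁻¹) := by group
    change g * (ε x * zz ε k) * g⁻¹ = ε x * zz ε k at h3
    rw [h4, hz] at h3
    exact mul_right_cancel h3

/-- `V = ⟨V_ijk, z_i, z_k⟩` -/
theorem V_le_of (ev : EvenSet n V L ε) {i j k : Fin n} (hij : i ≠ j) (hik : i ≠ k) (hjk : j ≠ k) {S : Subgroup G}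
    (hi : zz ε i ∈ S) (hk : zz ε k ∈ S) (hS : VG ε {i, j, k} ≤ S) : V ≤ S := by
  intro v hv
  obtain ⟨x, rfl⟩ := ev.surj v hv
  have hsm : ∀ (c : ZMod 2) (m : Fin n), zz ε m ∈ S → ε (c • Pi.single m 1) ∈ S := by
    intro c m hm
    rcases zmod2 c with rfl | rfl
    · rw [zero_smul, ev.zero]
      exact one_mem _
    · rw [one_smul]
      exact hm
  have h1 : Cst {i, j, k} (x + (x i + x j) • Pi.single i 1 + (x k + x j) • Pi.single k 1) := by
    have hv : ∀ c, (c = i ∨ c = j ∨ c = k) →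
        (x + (x i + x j) • Pi.single i 1 + (x k + x j) • Pi.single k 1 : Fin n → ZMod 2) c = x j := by
      rintro c (rfl | rfl | rfl)
      · simp only [Pi.add_apply, Pi.smul_apply, Pi.single_eq_same, Pi.single_eq_of_ne hik, smul_eq_mul, mul_zero,
          mul_one, add_zero]
        rw [← add_assoc, CharTwo.add_self_eq_zero, zero_add]
      · simp only [Pi.add_apply, Pi.smul_apply, Pi.single_eq_of_ne hij.symm, Pi.single_eq_of_ne hjk, smul_eq_mul,
          mul_zero, add_zero]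
      · simp only [Pi.add_apply, Pi.smul_apply, Pi.single_eq_same, Pi.single_eq_of_ne hik.symm, smul_eq_mul, mul_zero,
          mul_one, add_zero]
        rw [← add_assoc, CharTwo.add_self_eq_zero, zero_add]
    intro a ha b hb
    simp only [Finset.mem_insert, Finset.mem_singleton] at ha hb
    rw [hv a ha, hv b hb]
  have h2 := hS ((mem_VG_iff ev).2 h1)
  rw [ev.add, ev.add] at h2
  have h3 := (mul_mem_cancel_right (hsm _ k hk)).1 h2
  exact (mul_mem_cancel_right (hsm _ i hi)).1 h3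

end labels

section sylow

variable [Finite G] {n : ℕ} {V W : Subgroup G} {ε : (Fin n → ZMod 2) → G}

omit [Finite G] in
/-- a 2-subgroup of `C_G(V_Γ)` which normalises `V` fixes a letter of `Γ` (`|Γ|` odd) -/
theorem exists_fix (ev : EvenSet n V (normalizer (V : Set G)) ε) (hn : 3 ≤ n) {Γ : Finset (Fin n)}
    (hΓ : Odd Γ.card) {T : Subgroup G} (hT : IsPGroup 2 T) (h1 : T ≤ YG ε Γ) (h2 : T ≤ normalizer (V : Set G)) :
    ∃ c ∈ Γ, ∀ t ∈ T, t * zz ε c * t⁻¹ = zz ε c := by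
  by_contra hcon
  push Not at hcon
  let f : T →* Equiv.Perm (Fin n) := (ev.hom hn).comp (inclusion h2)
  have hf : ∀ t : T, Acts ε (t : G) (f t) := fun t => ev.acts_hom hn (inclusion h2 t)
  let _ : MulAction T (Fin n) := MulAction.compHom (Fin n) f
  have hsm : ∀ (t : T) (m : Fin n), t • m = f t m := fun _ _ => rfl
  have : Fact (Nat.Prime 2) := ⟨Nat.prime_two⟩
  have h3 := hT.card_modEq_card_fixedPoints (Fin n)
  have h4 : MulAction.fixedPoints T (Fin n) = ((Γᶜ : Finset (Fin n)) : Set (Fin n)) := by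
    ext m
    rw [MulAction.mem_fixedPoints, Finset.mem_coe, Finset.mem_compl]
    constructor
    · intro h5 hm
      obtain ⟨t, ht, h6⟩ := hcon m hm
      apply h6
      have h7 := h5 ⟨t, ht⟩
      rw [hsm] at h7
      have h8 := (hf ⟨t, ht⟩).single m
      rw [h7] at h8
      exact h8
    · intro hm t
      rw [hsm]
      exact acts_fix ev hn (hf t) (h1 t.2) hm
  rw [h4, Nat.card_eq_fintype_card, Fintype.card_fin] at h3
  have h5 : Nat.card ((Γᶜ : Finset (Fin n)) : Set (Fin n)) = n - Γ.card := by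
    rw [Nat.card_coe_set_eq, Set.ncard_coe_finset, Finset.card_compl, Fintype.card_fin]
  rw [h5] at h3
  have h6 : Γ.card ≤ n := by
    have := Finset.card_le_univ Γ
    rwa [Fintype.card_fin] at this
  obtain ⟨c, hc⟩ := hΓ
  have h7 : n % 2 = (n - Γ.card) % 2 := h3
  omega

variable [NeZero n]

/-- a Sylow 2-subgroup of `C_G(V_Γ)` in `N(V)` fixing a given letter of `Γ` (`|Γ|` odd) -/
theorem Ln.exists_syl (h : Ln V ε W) {Γ : Finset (Fin n)} (h0 : 0 ∉ Γ) (hΓ : Odd Γ.card) {k : Fin n} (hk : k ∈ Γ) :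
    ∃ T : Subgroup G, T ≤ YG ε Γ ∧ T ≤ normalizer (V : Set G) ∧ IsPGroup 2 T ∧ ¬ 2 ∣ T.relIndex (YG ε Γ) ∧
      ∀ t ∈ T, t * zz ε k * t⁻¹ = zz ε k := by
  have hn : 3 ≤ n := by have := h.n5; omega
  obtain ⟨T, h1, h2, h3, h4⟩ := h.syl Γ h0
  obtain ⟨c, hc, h5⟩ := exists_fix h.ev hn hΓ h3 h1 h2
  obtain ⟨g, hg, hσ⟩ := h.ev.full (Equiv.swap c k)
  have hgY : g ∈ YG ε Γ := by
    refine mem_YG_of_acts h.ev hσ fun m hm => ?_
    refine Equiv.swap_apply_of_ne_of_ne ?_ ?_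
    · rintro rfl
      exact hm hc
    · rintro rfl
      exact hm hk
  have e1 : (YG ε Γ).map (MulAut.conj g).toMonoidHom = YG ε Γ :=
    mem_normalizer_iff_map_conj_eq.mp (le_normalizer hgY)
  refine ⟨T.map (MulAut.conj g).toMonoidHom, ?_, ?_, h3.map _, ?_, ?_⟩
  · rintro _ ⟨t, ht, rfl⟩
    exact mul_mem (mul_mem hgY (h1 ht)) (inv_mem hgY)
  · rintro _ ⟨t, ht, rfl⟩
    exact mul_mem (mul_mem hg (h2 ht)) (inv_mem hg)
  · rw [← e1, relIndex_map_map_of_injective _ _ (MulAut.conj g).injective]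
    exact h4
  · rintro _ ⟨t, ht, rfl⟩
    change g * t * g⁻¹ * zz ε k * (g * t * g⁻¹)⁻¹ = zz ε k
    have h6 : g * zz ε c * g⁻¹ = zz ε k := by
      have h7 := hσ.single c
      rw [Equiv.swap_apply_left] at h7
      exact h7
    rw [← h6]
    calc g * t * g⁻¹ * (g * zz ε c * g⁻¹) * (g * t * g⁻¹)⁻¹ = g * (t * zz ε c * t⁻¹) * g⁻¹ := by group
      _ = g * zz ε c * g⁻¹ := by rw [h5 t ht]

/-- `C_Y(U_Γ / V_Γ) = C_Y(U_Γ)` -/
theorem Ln.cent_UG (h : Ln V ε W) {Γ : Finset (Fin n)} (hΓ : 3 ≤ Γ.card) {a : G} (ha : a ∈ YG ε Γ)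
    (hc : ∀ x ∈ UG V ε Γ, a * x * a⁻¹ * x⁻¹ ∈ VG ε Γ) : a ∈ centralizer (UG V ε Γ : Set G) := by
  have hn : 3 ≤ n := by have := h.n5; omega
  have key : ∀ y ∈ YG ε Γ, ∀ v ∈ V, a * (y * v * y⁻¹) = y * v * y⁻¹ * a := by
    intro y hy
    set b := y⁻¹ * a * y with hb
    have hbY : b ∈ YG ε Γ := mul_mem (mul_mem (inv_mem hy) ha) hy
    have h1 : ∀ v ∈ V, b * v * b⁻¹ * v⁻¹ ∈ VG ε Γ := by
      intro v hv
      have h2 := hc _ (conj_mem_Cl hy hv)
      obtain ⟨x, hx, he⟩ := (mem_VG h.ev).1 h2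
      have h3 := (mem_YG h.ev).1 (inv_mem hy) x hx
      rw [he] at h3
      have h4 : b * v * b⁻¹ * v⁻¹ =
          y⁻¹ * (a * (y * v * y⁻¹) * a⁻¹ * (y * v * y⁻¹)⁻¹) * y⁻¹⁻¹ := by rw [hb]; group
      rw [h4, h3]
      exact h2
    have h2 : b ∈ normalizer (V : Set G) := by
      refine mem_normalizer_of_map_le ?_
      rintro _ ⟨v, hv, rfl⟩
      change b * v * b⁻¹ ∈ V
      have h3 := mul_mem (VG_le h.ev Γ (h1 v hv)) hv
      rwa [inv_mul_cancel_right] at h3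
    obtain ⟨σ, hσ⟩ := h.ev.perm b h2
    have h3 : σ = 1 := by
      ext m
      congr 1
      change σ m = m
      by_cases hm : m ∈ Γ
      · refine eq_of_mem_VG h.ev hΓ hm ?_
        have h4 := h1 _ (h.ev.mem (Pi.single m 1))
        rw [hσ.single, h.ev.inv] at h4
        exact h4
      · exact acts_fix h.ev hn hσ hbY hm
    subst h3
    have h4 := h.ev.acts_one_iff.1 hσ
    intro v hv
    have h5 := mem_centralizer_iff.1 h4 v hv
    calc a * (y * v * y⁻¹) = y * (b * v) * y⁻¹ := by rw [hb]; group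
      _ = y * (v * b) * y⁻¹ := by rw [h5]
      _ = y * v * y⁻¹ * a := by rw [hb]; group
  rw [mem_centralizer_iff]
  intro x hx
  refine closure_induction (p := fun x _ => x * a = a * x) ?_ ?_ ?_ ?_ hx
  · rintro _ ⟨y, hy, v, hv, rfl⟩
    exact (key y hy v hv).symm
  · rw [one_mul, mul_one]
  · intro x y _ _ h1 h2
    rw [mul_assoc, h2, ← mul_assoc, h1, mul_assoc]
  · intro x _ h1
    have h2 : Commute x a := h1
    exact h2.inv_left

end sylow

section main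

variable [Finite G] {n : ℕ} [NeZero n] {V W A : Subgroup G} {ε : (Fin n → ZMod 2) → G}

/-- `Y_Γ ≤ C(z_0)` -/
theorem Ln.YG_le (h : Ln V ε W) {Γ : Finset (Fin n)} (h0 : 0 ∉ Γ) :
    YG ε Γ ≤ centralizer ({zz ε 0} : Set G) := by
  refine centralizer_le ?_
  rw [Set.singleton_subset_iff]
  exact (mem_VG_iff h.ev).2 (cst_single h0)

theorem Ln.UG_le (h : Ln V ε W) {Γ : Finset (Fin n)} (h0 : 0 ∉ Γ) : UG V ε Γ ≤ W :=
  Cl_le h.VW ((h.YG_le h0).trans h.Wn)

theorem Ln.kY (h : Ln V ε W) {Γ : Finset (Fin n)} (h0 : 0 ∉ Γ) : IsKGroup (YG ε Γ) :=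
  ML.Final.kgroup_of_surj h.kg ((YG ε Γ).subgroupOf _) (subgroupOfEquivOfLe (h.YG_le h0)).toMonoidHom
    (subgroupOfEquivOfLe (h.YG_le h0)).surjective

/-- `{x ∈ W | [x, A] ≤ U}` is a subgroup -/
theorem exists_cm {W U : Subgroup G} (hW : ∀ a ∈ W, ∀ b ∈ W, a * b = b * a) (hU : U ≤ W) (A : Subgroup G) :
    ∃ C : Subgroup G, ∀ x, x ∈ C ↔ x ∈ W ∧ ∀ a ∈ A, a * x * a⁻¹ * x⁻¹ ∈ U := by
  refine ⟨{ carrier := {x | x ∈ W ∧ ∀ a ∈ A, a * x * a⁻¹ * x⁻¹ ∈ U}
            mul_mem' := ?_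
            one_mem' := ?_
            inv_mem' := ?_ }, fun x => Iff.rfl⟩
  · rintro x y ⟨hx, hx2⟩ ⟨hy, hy2⟩
    refine ⟨mul_mem hx hy, fun a ha => ?_⟩
    have h1 := hW _ (hU (hy2 a ha)) _ (inv_mem hx)
    have h2 : a * (x * y) * a⁻¹ * (x * y)⁻¹ = a * x * a⁻¹ * (a * y * a⁻¹ * y⁻¹ * x⁻¹) := by group
    rw [h2, h1, ← mul_assoc]
    exact mul_mem (hx2 a ha) (hy2 a ha)
  · refine ⟨one_mem _, fun a _ => ?_⟩
    have h1 : a * 1 * a⁻¹ * 1⁻¹ = 1 := by group
    rw [h1]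
    exact one_mem _
  · rintro x ⟨hx, hx2⟩
    refine ⟨inv_mem hx, fun a ha => ?_⟩
    have h1 := hW _ (inv_mem (hU (hx2 a ha))) _ (inv_mem hx)
    have h2 : a * x⁻¹ * a⁻¹ * x⁻¹⁻¹ = x⁻¹ * (a * x * a⁻¹ * x⁻¹)⁻¹ * x := by group
    rw [h2, ← h1, inv_mul_cancel_right]
    exact inv_mem (hx2 a ha)

theorem norm_o2 {L : Subgroup G} {g : G} (hg : g ∈ normalizer (L : Set G)) : g ∈ normalizer (o2 L : Set G) := by
  refine mem_normalizer_of_map_le ?_
  refine le_o2 ?_ ((o2_isPGroup L).map _) ?_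
  · rintro _ ⟨x, hx, rfl⟩
    exact (mem_normalizer_iff.1 hg x).1 (o2_le L hx)
  · intro l hl
    refine mem_normalizer_of_map_le ?_
    rintro _ ⟨_, ⟨x, hx, rfl⟩, rfl⟩
    have h1 : g⁻¹ * l * g ∈ L := by
      have := (mem_normalizer_iff.1 (inv_mem hg) l).1 hl
      rwa [inv_inv] at this
    refine ⟨g⁻¹ * l * g * x * (g⁻¹ * l * g)⁻¹, (mem_normalizer_iff.1 (le_normalizer_o2 L h1) x).1 hx, ?_⟩
    change g * (g⁻¹ * l * g * x * (g⁻¹ * l * g)⁻¹) * g⁻¹ = l * (g * x * g⁻¹) * l⁻¹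
    group

theorem norm_cent {U : Subgroup G} {g : G} (hg : g ∈ normalizer (U : Set G)) :
    g ∈ normalizer (centralizer (U : Set G) : Set G) := by
  refine mem_normalizer_of_map_le ?_
  rintro _ ⟨c, hc, rfl⟩
  refine mem_centralizer_iff.2 fun u hu => ?_
  have h1 : g⁻¹ * u * g ∈ U := by
    have := (mem_normalizer_iff.1 (inv_mem hg) u).1 hu
    rwa [inv_inv] at this
  have h2 := mem_centralizer_iff.1 hc _ h1
  change u * (g * c * g⁻¹) = g * c * g⁻¹ * u
  calc u * (g * c * g⁻¹) = g * (g⁻¹ * u * g * c) * g⁻¹ := by group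
    _ = g * (c * (g⁻¹ * u * g)) * g⁻¹ := by rw [h2]
    _ = g * c * g⁻¹ * u := by group

/-- `O₂(C_G(V)) ∩ C(U_ij) ≤ O₂(C_G(U_ij))` -/
theorem le_o2_cent {A : Subgroup G} {U : Subgroup G} (hV : V ≤ U) (hA : A ≤ o2 (centralizer (V : Set G)))
    (hf : A ≤ centralizer (U : Set G)) : A ≤ o2 (centralizer (U : Set G)) := by
  have h1 : o2 (centralizer (V : Set G)) ⊓ centralizer (U : Set G) ≤ o2 (centralizer (U : Set G)) := by
    refine le_o2 inf_le_right ((o2_isPGroup _).to_le inf_le_left) ?_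
    intro g hg
    have h2 : g ∈ normalizer (o2 (centralizer (V : Set G)) : Set G) := le_normalizer_o2 _ (centralizer_le hV hg)
    have h3 : g ∈ normalizer (centralizer (U : Set G) : Set G) := le_normalizer hg
    rw [mem_normalizer_iff]
    intro x
    rw [mem_inf, mem_inf, mem_normalizer_iff.1 h2 x, mem_normalizer_iff.1 h3 x]
  exact (le_inf hA hf).trans h1

/-- **THEOREM R1, step (2)** -/
theorem Ln.two (h : Ln V ε W) (hML : ML.Final.MLK.{u, u}) (hA : A ≤ o2 (centralizer (V : Set G))) (hB : Best W A)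
    {i j k : Fin n} (hi : i ≠ 0) (hj : j ≠ 0) (hk : k ≠ 0) (hij : i ≠ j) (hik : i ≠ k) (hjk : j ≠ k)
    (hf : A ≤ centralizer (UG V ε {i, j} : Set G)) (hm : ¬ A ≤ centralizer (UG V ε {i, k} : Set G)) :
    Goo V ε W A {i, j, k} ∧ W ≤ UG V ε {i, j, k} ⊔ (W ⊓ centralizer (A : Set G)) ∧
      A ⊓ centralizer (UG V ε {i, j, k} : Set G) ≤ centralizer (W : Set G) := by
  set Γ : Finset (Fin n) := {i, j, k} with hΓ
  have h0 : (0 : Fin n) ∉ Γ := by
    rw [hΓ]
    simp only [Finset.mem_insert, Finset.mem_singleton, not_or]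
    exact ⟨hi.symm, hj.symm, hk.symm⟩
  have hcard : Γ.card = 3 := Finset.card_eq_three.2 ⟨i, j, k, hij, hik, hjk, rfl⟩
  have hkΓ : k ∈ Γ := by rw [hΓ]; simp
  have hUW : UG V ε Γ ≤ W := h.UG_le h0
  have hVU : V ≤ UG V ε Γ := le_Cl _ _
  have hYU : YG ε Γ ≤ normalizer (UG V ε Γ : Set G) := le_normalizer_Cl _ _
  have hGV : VG ε Γ ≤ V := VG_le h.ev Γ
  have hAV : A ≤ centralizer (V : Set G) := hA.trans (o2_le _)
  have hAY : A ≤ YG ε Γ := hAV.trans (centralizer_le_YG h.ev Γ)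
  obtain ⟨T, hT1, hT2, hT3, hT4, hT5⟩ := h.exists_syl h0 (by rw [hcard]; decide) hkΓ
  have hQV : o2 (centralizer (UG V ε {i, j} : Set G)) ≤ centralizer (V : Set G) :=
    (o2_le _).trans (centralizer_le (le_Cl _ _))
  have hsq : ∀ x ∈ UG V ε Γ, x * x = 1 := fun x hx => h.Ws x (hUW hx)
  have D : ML.Final.GDat (YG ε Γ) (UG V ε Γ) (VG ε Γ) T (o2 (centralizer (UG V ε {i, j} : Set G))) A (zz ε k) := by
    refine
      { nW := hYU
        nY := ?_
        YW := hGV.trans hVU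
        WY := ?_
        sq := ?_
        mem := hVU (h.ev.mem _)
        gen := ?_
        TC := hT1
        two := hT3
        odd := hT4
        fixT := ?_
        QC := hQV.trans (centralizer_le_YG h.ev Γ)
        Q2 := o2_isPGroup _
        fixQ := ?_
        nrmQ := ?_
        AQ := le_o2_cent (le_Cl _ _) hA hf
        Asq := ?_ }
    · exact centralizer_le_normalizer _
    · intro u hu
      refine centralizer_le_normalizer _ (mem_centralizer_iff.2 fun v hv => ?_)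
      exact h.Wc v (h.VW (hGV hv)) u (hUW hu)
    · intro x hx
      rw [hsq x hx]
      exact one_mem _
    · intro S hS1 hS2 hS3
      refine Cl_le ?_ hS3
      obtain ⟨g, hg, hσ⟩ := h.ev.full (Equiv.swap k i)
      have hgY : g ∈ YG ε Γ := by
        refine mem_YG_of_acts h.ev hσ fun m hm => ?_
        refine Equiv.swap_apply_of_ne_of_ne ?_ ?_
        · rintro rfl
          exact hm hkΓ
        · rintro rfl
          exact hm (by rw [hΓ]; simp)
      refine V_le_of h.ev hij hik hjk ?_ hS1 hS2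
      have h7 := hσ.single k
      rw [Equiv.swap_apply_left] at h7
      change ε (Pi.single i 1) ∈ S
      rw [← h7]
      exact (mem_normalizer_iff.1 (hS3 hgY) _).1 hS1
    · intro t ht
      rw [hT5 t ht, mul_inv_cancel]
      exact one_mem _
    · intro q hq
      have h1 := mem_centralizer_iff.1 (hQV hq) _ (h.ev.mem (Pi.single k 1))
      change q * ε (Pi.single k 1) * q⁻¹ * (ε (Pi.single k 1))⁻¹ ∈ _
      rw [← h1, mul_inv_cancel_right, mul_inv_cancel]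
      exact one_mem _
    · intro g hg hgz q hq
      have h1 : g * zz ε k * g⁻¹ ∈ V := by
        have h2 := mul_mem (hGV hgz) (h.ev.mem (Pi.single k 1))
        have h3 : g * zz ε k * g⁻¹ * (zz ε k)⁻¹ * zz ε k = g * zz ε k * g⁻¹ := inv_mul_cancel_right _ _
        rw [← h3]
        exact h2
      obtain ⟨m, hm⟩ := h.fus k g h1
      have h4 : m = k := by
        refine eq_of_mem_VG h.ev hcard.ge hkΓ ?_
        rw [← hm]
        have h5 : (zz ε k)⁻¹ = zz ε k := h.ev.inv _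
        rw [h5] at hgz
        exact hgz
      rw [h4] at hm
      have h5 : g ∈ YG ε {i, j} := mem_YG_pair h.ev hij hik hjk hg hm
      have h6 : g ∈ normalizer (UG V ε {i, j} : Set G) := le_normalizer_Cl _ _ h5
      have h7 : g ∈ normalizer (o2 (centralizer (UG V ε {i, j} : Set G)) : Set G) := norm_o2 (norm_cent h6)
      exact (mem_normalizer_iff.1 h7 q).1 hq
    · intro a ha x hx
      have h1 := mem_centralizer_iff.1 (hB.el.sq a ha) x (hUW hx)
      have h2 : a * (a * x * a⁻¹) * a⁻¹ * x⁻¹ = a ^ 2 * x * (a ^ 2)⁻¹ * x⁻¹ := by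
        rw [pow_two]
        group
      rw [h2, ← h1, mul_inv_cancel_right, mul_inv_cancel]
      exact one_mem _
  set B : Subgroup G := A ⊓ centralizer (UG V ε Γ : Set G) with hBdef
  have hBA : B ≤ A := inf_le_left
  have hWc : ∀ a ∈ UG V ε Γ, ∀ b ∈ UG V ε Γ, a * b = b * a := fun a ha b hb => h.Wc a (hUW ha) b (hUW hb)
  -- `|A : C_A(U)| ≤ |U : C_U(A)|`
  have key : B.relIndex A ≤ (centralizer (A : Set G)).relIndex (UG V ε Γ) := by
    obtain ⟨CW, hCW⟩ := exists_cm hWc (hGV.trans hVU) A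
    have h1 : B.relIndex A ≤ CW.relIndex (UG V ε Γ) := by
      refine hML.grp (h.kY h0) D ?_ hCW
      intro a
      constructor
      · rintro ⟨ha, ha2⟩
        refine ⟨ha, fun x hx => ?_⟩
        rw [← mem_centralizer_iff.1 ha2 x hx, mul_inv_cancel_right, mul_inv_cancel]
        exact one_mem _
      · rintro ⟨ha, ha2⟩
        exact ⟨ha, h.cent_UG hcard.ge (hAY ha) ha2⟩
    refine h1.trans ?_
    rw [← inf_relIndex_right (centralizer (A : Set G))]
    refine relIndex_le_of_le_left ?_ index_ne_zero_of_finite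
    rintro x ⟨hx1, hx2⟩
    refine (hCW x).2 ⟨hx2, fun a ha => ?_⟩
    rw [mem_centralizer_iff.1 hx1 a ha, mul_inv_cancel_right, mul_inv_cancel]
    exact one_mem _
  have hUB : UG V ε Γ ≤ W ⊓ centralizer (B : Set G) := by
    refine le_inf hUW fun u hu => mem_centralizer_iff.2 fun b hb => ?_
    exact (mem_centralizer_iff.1 hb.2 u hu).symm
  have hlt : B < A := by
    refine lt_of_le_of_ne hBA fun he => hm ?_
    have h1 : A ≤ centralizer (UG V ε Γ : Set G) := by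
      rw [← he]
      exact inf_le_right
    refine h1.trans (centralizer_le (UG_mono V ε ?_))
    rw [hΓ]
    intro c hc
    simp only [Finset.mem_insert, Finset.mem_singleton] at hc ⊢
    tauto
  have hWB : A ⊓ centralizer (W : Set G) ≤ B := inf_le_inf_left _ (centralizer_le hUW)
  have heq : A ⊓ centralizer (W : Set G) = B := by
    rcases hWB.eq_or_lt with h1 | h1
    · exact h1
    · exfalso
      have h2 := hB.min B h1 hlt
      have h3 := relIndex_le_of_le_right (H := centralizer (A : Set G)) hUB index_ne_zero_of_finite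
      omega
  have h3 : A ⊓ centralizer (UG V ε Γ : Set G) ≤ centralizer (W : Set G) := by
    rw [← hBdef, ← heq]
    exact inf_le_right
  have h4 : W ≤ UG V ε Γ ⊔ (W ⊓ centralizer (A : Set G)) := by
    set S := W ⊓ centralizer (A : Set G) with hS
    have e1 : S.relIndex W = (centralizer (A : Set G)).relIndex W := by
      rw [hS, inf_comm, inf_relIndex_right]
    have e2 : S.relIndex (UG V ε Γ) = (centralizer (A : Set G)).relIndex (UG V ε Γ) := by
      rw [← inf_relIndex_right S, ← inf_relIndex_right (centralizer (A : Set G)), hS]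
      congr 1
      rw [inf_assoc, inf_comm, inf_assoc, inf_eq_left.2 hUW]
    have e3 : (centralizer (W : Set G)).relIndex A = B.relIndex A := by
      rw [← heq, inf_comm, inf_relIndex_right]
    have e4 := hB.off
    have e5 : S.relIndex (UG V ε Γ) ≤ S.relIndex (UG V ε Γ ⊔ S) :=
      relIndex_le_of_le_right le_sup_left index_ne_zero_of_finite
    have e6 : S.relIndex (UG V ε Γ ⊔ S) * (UG V ε Γ ⊔ S).relIndex W = S.relIndex W :=
      relIndex_mul_relIndex _ _ _ le_sup_right (sup_le hUW inf_le_left)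
    have e7 : 0 < S.relIndex (UG V ε Γ ⊔ S) := Nat.pos_of_ne_zero index_ne_zero_of_finite
    have e8 : (UG V ε Γ ⊔ S).relIndex W ≤ 1 := by
      by_contra hcon
      have h5 : S.relIndex (UG V ε Γ ⊔ S) * 2 ≤ S.relIndex (UG V ε Γ ⊔ S) * (UG V ε Γ ⊔ S).relIndex W :=
        Nat.mul_le_mul_left _ (by omega)
      omega
    have e9 : (UG V ε Γ ⊔ S).relIndex W ≠ 0 := index_ne_zero_of_finite
    exact relIndex_eq_one.1 (by omega)
  refine ⟨?_, h4, h3⟩
  obtain ⟨C, hC⟩ := exists_cm h.Wc hUW A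
  intro a ha w hw
  have h5 : UG V ε Γ ⊔ (W ⊓ centralizer (A : Set G)) ≤ C := by
    refine sup_le ?_ ?_
    · intro u hu
      refine (hC u).2 ⟨hUW hu, fun b hb => ?_⟩
      exact mul_mem ((mem_normalizer_iff.1 (hYU (hAY hb)) u).1 hu) (inv_mem hu)
    · rintro u ⟨hu, hu2⟩
      refine (hC u).2 ⟨hu, fun b hb => ?_⟩
      rw [mem_centralizer_iff.1 hu2 b hb, mul_inv_cancel_right, mul_inv_cancel]
      exact one_mem _
  exact ((hC w).1 (h5 (h4 hw))).2 a ha

end main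

end Cfsg.Agent.Omega.NO3S.SN.R1

end

section


/-!
# THEOREM R2 (helper695 #24008): (ML) on `W_ij / V_ij`

`U = W_ij = ⟨V^{X_ij}⟩`, `X_ij = C_G(V_ij)`, `A ≤ O₂(C_G(V))` with `A² ≤ C(U)`.  If an element of `A` which centralises
`U / V_ij` centralises `U`, then `|A : C_A(U)| ≤ |U : C_U(A)|` (`pair_ml`).
-/

set_option autoImplicit false
set_option linter.unusedSectionVars false

namespace Cfsg.Agent.Omega.NO3S.SN.RTwo

open Subgroup Cfsg Cfsg.Agent.ZN Cfsg.Agent.Omega.S5.Def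
open Cfsg.Agent.Omega.NO3S.SN.R1
open Cfsg.Agent.MinSimple.VModule

universe u

variable {G : Type u} [Group G]

section labels

variable {n : ℕ} {V : Subgroup G} {L : Subgroup G} {ε : (Fin n → ZMod 2) → G}

/-- `z_i z_j ∈ V_ij` -/
theorem zz_mul_zz_mem (ev : EvenSet n V L ε) {i j : Fin n} (hij : i ≠ j) : zz ε j * (zz ε i)⁻¹ ∈ VG ε {i, j} := by
  have h1 : (zz ε i)⁻¹ = zz ε i := ev.inv _
  have h2 : zz ε j * zz ε i = ε (Pi.single j 1 + Pi.single i 1) := (ev.add _ _).symm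
  rw [h1, h2, mem_VG_iff ev]
  have hv : ∀ c, (c = i ∨ c = j) → (Pi.single j 1 + Pi.single i 1 : Fin n → ZMod 2) c = 1 := by
    rintro c (rfl | rfl)
    · rw [Pi.add_apply, Pi.single_eq_same, Pi.single_eq_of_ne hij, zero_add]
    · rw [Pi.add_apply, Pi.single_eq_same, Pi.single_eq_of_ne hij.symm, add_zero]
  intro a ha b hb
  simp only [Finset.mem_insert, Finset.mem_singleton] at ha hb
  rw [hv a ha, hv b hb]

/-- `V = V_ij ⟨z_i⟩` -/
theorem mem_VG_or (ev : EvenSet n V L ε) {i j : Fin n} (hij : i ≠ j) {v : G} (hv : v ∈ V) :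
    v ∈ VG ε {i, j} ∨ v * zz ε i ∈ VG ε {i, j} := by
  obtain ⟨x, rfl⟩ := ev.surj v hv
  rcases eq_or_ne (x i) (x j) with h1 | h1
  · left
    rw [mem_VG_iff ev]
    intro a ha b hb
    simp only [Finset.mem_insert, Finset.mem_singleton] at ha hb
    rcases ha with rfl | rfl <;> rcases hb with rfl | rfl
    · rfl
    · exact h1
    · exact h1.symm
    · rfl
  · right
    have h2 : ε x * zz ε i = ε (x + Pi.single i 1) := (ev.add _ _).symm
    rw [h2, mem_VG_iff ev]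
    have h3 : (x + Pi.single i 1 : Fin n → ZMod 2) i = x j := by
      rw [Pi.add_apply, Pi.single_eq_same]
      rcases zmod2 (x i) with h4 | h4 <;> rcases zmod2 (x j) with h5 | h5
      · exact absurd (h4.trans h5.symm) h1
      · rw [h4, h5]; rfl
      · rw [h4, h5]; rfl
      · exact absurd (h4.trans h5.symm) h1
    have h4 : (x + Pi.single i 1 : Fin n → ZMod 2) j = x j := by
      rw [Pi.add_apply, Pi.single_eq_of_ne hij.symm, add_zero]
    intro a ha b hb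
    simp only [Finset.mem_insert, Finset.mem_singleton] at ha hb
    rcases ha with rfl | rfl <;> rcases hb with rfl | rfl
    · rfl
    · rw [h3, h4]
    · rw [h3, h4]
    · rfl

theorem V_le_pair (ev : EvenSet n V L ε) {i j : Fin n} (hij : i ≠ j) {S : Subgroup G} (hz : zz ε i ∈ S)
    (hS : VG ε {i, j} ≤ S) : V ≤ S := by
  intro v hv
  rcases mem_VG_or ev hij hv with h1 | h1
  · exact hS h1
  · exact (mul_mem_cancel_right hz).1 (hS h1)

/-- an element of `N(V) ∩ X_ij` fixes `z_i V_ij` -/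
theorem fix_pair (ev : EvenSet n V (normalizer (V : Set G)) ε) (hn : 3 ≤ n) {i j : Fin n} (hij : i ≠ j) {t : G}
    (ht : t ∈ YG ε {i, j}) (htV : t ∈ normalizer (V : Set G)) : t * zz ε i * t⁻¹ * (zz ε i)⁻¹ ∈ VG ε {i, j} := by
  obtain ⟨σ, hσ⟩ := ev.perm t htV
  have h1 : t * zz ε i * t⁻¹ = zz ε (σ i) := hσ.single i
  rw [h1]
  have h2 : σ i = i ∨ σ i = j := by
    by_contra hcon
    push Not at hcon
    have h3 : σ i ∉ ({i, j} : Finset (Fin n)) := by
      simp only [Finset.mem_insert, Finset.mem_singleton, not_or]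
      exact hcon
    have h4 := acts_fix ev hn hσ ht h3
    exact hcon.1 (σ.injective h4)
  rcases h2 with h2 | h2
  · rw [h2, mul_inv_cancel]
    exact one_mem _
  · rw [h2]
    exact zz_mul_zz_mem ev hij

/-- an element of `X_ij` which fixes `z_i V_ij` normalises `V` -/
theorem mem_normalizer_pair (ev : EvenSet n V L ε) {i j : Fin n} (hij : i ≠ j) {g : G} (hg : g ∈ YG ε {i, j})
    (hz : g * zz ε i * g⁻¹ * (zz ε i)⁻¹ ∈ VG ε {i, j}) [Finite G] : g ∈ normalizer (V : Set G) := by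
  refine mem_normalizer_of_map_le ?_
  have h0 : ∀ v ∈ VG ε {i, j}, g * v * g⁻¹ = v := by
    intro v hv
    have h1 := mem_centralizer_iff.1 hg v hv
    rw [← h1, mul_inv_cancel_right]
  have h1 : g * zz ε i * g⁻¹ ∈ V := by
    have h2 := mul_mem (VG_le ev _ hz) (ev.mem (Pi.single i 1))
    change g * zz ε i * g⁻¹ * (zz ε i)⁻¹ * zz ε i ∈ V at h2
    rwa [inv_mul_cancel_right] at h2
  rintro _ ⟨v, hv, rfl⟩
  change g * v * g⁻¹ ∈ V
  rcases mem_VG_or ev hij hv with h2 | h2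
  · rw [h0 v h2]; exact hv
  · have h3 := h0 _ h2
    have h4 : g * (v * zz ε i) * g⁻¹ = g * v * g⁻¹ * (g * zz ε i * g⁻¹) := by group
    rw [h4] at h3
    exact (mul_mem_cancel_right h1).1 (h3 ▸ VG_le ev _ h2)

end labels

section ml

variable [Finite G] {n : ℕ} {V A : Subgroup G} {ε : (Fin n → ZMod 2) → G}

/-- **(ML) on `W_ij / V_ij`** -/
theorem pair_ml (hML : ML.Final.MLK.{u, u}) (ev : EvenSet n V (normalizer (V : Set G)) ε) (hn : 3 ≤ n) {i j : Fin n}
    (hij : i ≠ j) (hK : IsKGroup (YG ε {i, j})) (hc : ∀ a ∈ UG V ε {i, j}, ∀ b ∈ UG V ε {i, j}, a * b = b * a)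
    (hs : ∀ a ∈ UG V ε {i, j}, a * a = 1)
    (hsyl : ∃ T : Subgroup G, T ≤ YG ε {i, j} ∧ T ≤ normalizer (V : Set G) ∧ IsPGroup 2 T ∧
      ¬ 2 ∣ T.relIndex (YG ε {i, j}))
    (hA : A ≤ o2 (centralizer (V : Set G))) (hsq : ∀ a ∈ A, a ^ 2 ∈ centralizer (UG V ε {i, j} : Set G))
    (hfix : ∀ a ∈ A, (∀ x ∈ UG V ε {i, j}, a * x * a⁻¹ * x⁻¹ ∈ VG ε {i, j}) →
      a ∈ centralizer (UG V ε {i, j} : Set G)) :
    (centralizer (UG V ε {i, j} : Set G)).relIndex A ≤ (centralizer (A : Set G)).relIndex (UG V ε {i, j}) := by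
  set Γ : Finset (Fin n) := {i, j} with hΓ
  have hVU : V ≤ UG V ε Γ := le_Cl _ _
  have hYU : YG ε Γ ≤ normalizer (UG V ε Γ : Set G) := le_normalizer_Cl _ _
  have hGV : VG ε Γ ≤ V := VG_le ev Γ
  have hAV : A ≤ centralizer (V : Set G) := hA.trans (o2_le _)
  have hAY : A ≤ YG ε Γ := hAV.trans (centralizer_le_YG ev Γ)
  obtain ⟨T, hT1, hT2, hT3, hT4⟩ := hsyl
  have D : ML.Final.GDat (YG ε Γ) (UG V ε Γ) (VG ε Γ) T (o2 (centralizer (V : Set G))) A (zz ε i) := by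
    refine
      { nW := hYU
        nY := centralizer_le_normalizer _
        YW := hGV.trans hVU
        WY := ?_
        sq := ?_
        mem := hVU (ev.mem _)
        gen := ?_
        TC := hT1
        two := hT3
        odd := hT4
        fixT := fun t ht => fix_pair ev hn hij (hT1 ht) (hT2 ht)
        QC := (o2_le _).trans (centralizer_le_YG ev Γ)
        Q2 := o2_isPGroup _
        fixQ := ?_
        nrmQ := ?_
        AQ := hA
        Asq := ?_ }
    · intro u hu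
      refine centralizer_le_normalizer _ (mem_centralizer_iff.2 fun v hv => ?_)
      exact hc v (hVU (hGV hv)) u hu
    · intro x hx
      rw [hs x hx]
      exact one_mem _
    · intro S hS1 hS2 hS3
      exact Cl_le (V_le_pair ev hij hS1 hS2) hS3
    · intro q hq
      have h1 := mem_centralizer_iff.1 (o2_le _ hq) _ (ev.mem (Pi.single i 1))
      change q * ε (Pi.single i 1) * q⁻¹ * (ε (Pi.single i 1))⁻¹ ∈ _
      rw [← h1, mul_inv_cancel_right, mul_inv_cancel]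
      exact one_mem _
    · intro g hg hgz q hq
      have h1 := mem_normalizer_pair ev hij hg hgz
      exact (mem_normalizer_iff.1 (norm_o2 (norm_cent h1)) q).1 hq
    · intro a ha x hx
      have h1 := mem_centralizer_iff.1 (hsq a ha) x hx
      have h2 : a * (a * x * a⁻¹) * a⁻¹ * x⁻¹ = a ^ 2 * x * (a ^ 2)⁻¹ * x⁻¹ := by
        rw [pow_two]
        group
      rw [h2, ← h1, mul_inv_cancel_right, mul_inv_cancel]
      exact one_mem _
  obtain ⟨CW, hCW⟩ := exists_cm hc (hGV.trans hVU) A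
  have h1 : (A ⊓ centralizer (UG V ε Γ : Set G)).relIndex A ≤ CW.relIndex (UG V ε Γ) := by
    refine hML.grp hK D ?_ hCW
    intro a
    constructor
    · rintro ⟨ha, ha2⟩
      refine ⟨ha, fun x hx => ?_⟩
      rw [← mem_centralizer_iff.1 ha2 x hx, mul_inv_cancel_right, mul_inv_cancel]
      exact one_mem _
    · rintro ⟨ha, ha2⟩
      exact ⟨ha, hfix a ha ha2⟩
  have e0 : (A ⊓ centralizer (UG V ε Γ : Set G)).relIndex A = (centralizer (UG V ε Γ : Set G)).relIndex A := by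
    rw [inf_comm, inf_relIndex_right]
  rw [e0] at h1
  refine h1.trans ?_
  rw [← inf_relIndex_right (centralizer (A : Set G))]
  refine relIndex_le_of_le_left ?_ index_ne_zero_of_finite
  rintro x ⟨hx1, hx2⟩
  refine (hCW x).2 ⟨hx2, fun a ha => ?_⟩
  rw [mem_centralizer_iff.1 hx1 a ha, mul_inv_cancel_right, mul_inv_cancel]
  exact one_mem _

end ml

section count

variable [Finite G] {K W U A : Subgroup G}

theorem card_mul_rel {B A : Subgroup G} (h : B ≤ A) : Nat.card B * B.relIndex A = Nat.card A := by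
  rw [← relIndex_bot_left (H := B), ← relIndex_bot_left (H := A)]
  exact relIndex_mul_relIndex _ _ _ bot_le h

/-- `f(B) = |B| |C_W(B)|`; `A` minimal with `f(A) = f(K)`, `K ≤ C(W)`, exact on `U`, moves `U`: then `C_A(U) = K` and
`W = U C_W(A)`. -/
theorem exact_of (hUW : U ≤ W) (hKA : K ≤ A) (hKW : K ≤ centralizer (W : Set G))
    (hmin : ∀ B : Subgroup G, K < B → B < A → Nat.card B * Nat.card ↥(W ⊓ centralizer (B : Set G)) <
      Nat.card A * Nat.card ↥(W ⊓ centralizer (A : Set G)))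
    (hf : Nat.card A * Nat.card ↥(W ⊓ centralizer (A : Set G)) = Nat.card K * Nat.card W)
    (hne : ¬ A ≤ centralizer (U : Set G))
    (hind : (centralizer (U : Set G)).relIndex A ≤ (centralizer (A : Set G)).relIndex U) :
    A ⊓ centralizer (U : Set G) = K ∧ W ≤ U ⊔ (W ⊓ centralizer (A : Set G)) := by
  set B : Subgroup G := A ⊓ centralizer (U : Set G) with hB
  set S : Subgroup G := W ⊓ centralizer (A : Set G) with hS
  have hBA : B ≤ A := inf_le_left
  have hlt : B < A := lt_of_le_of_ne hBA fun he => hne (by rw [← he]; exact inf_le_right)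
  have hKB : K ≤ B := le_inf hKA (hKW.trans (centralizer_le hUW))
  have e1 : B.relIndex A = (centralizer (U : Set G)).relIndex A := by rw [hB, inf_comm, inf_relIndex_right]
  have e2 : S.relIndex U = (centralizer (A : Set G)).relIndex U := by
    rw [← inf_relIndex_right S, ← inf_relIndex_right (centralizer (A : Set G)), hS]
    congr 1
    rw [inf_assoc, inf_comm, inf_assoc, inf_eq_left.2 hUW]
  rw [← e1, ← e2] at hind
  have e3 : S.relIndex U ≤ S.relIndex (U ⊔ S) := relIndex_le_of_le_right le_sup_left index_ne_zero_of_finite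
  have e4 : Nat.card S * S.relIndex (U ⊔ S) = Nat.card ↥(U ⊔ S) := card_mul_rel le_sup_right
  have e5 : Nat.card B * B.relIndex A = Nat.card A := card_mul_rel hBA
  have hSB : U ⊔ S ≤ W ⊓ centralizer (B : Set G) := by
    refine sup_le (le_inf hUW fun u hu => mem_centralizer_iff.2 fun b hb => ?_)
      (inf_le_inf_left _ (centralizer_le hBA))
    exact (mem_centralizer_iff.1 hb.2 u hu).symm
  have e6 : Nat.card ↥(U ⊔ S) ≤ Nat.card ↥(W ⊓ centralizer (B : Set G)) := card_le_of_le hSB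
  have e7 : Nat.card S * B.relIndex A ≤ Nat.card ↥(U ⊔ S) := by
    rw [← e4]
    exact Nat.mul_le_mul_left _ (hind.trans e3)
  have hBK : B = K := by
    by_contra hcon
    have h1 := hmin B (lt_of_le_of_ne hKB (Ne.symm hcon)) hlt
    have h2 : Nat.card A * Nat.card S ≤ Nat.card B * Nat.card ↥(W ⊓ centralizer (B : Set G)) := by
      rw [← e5, mul_assoc]
      refine Nat.mul_le_mul_left _ ?_
      rw [mul_comm]
      exact e7.trans e6
    omega
  refine ⟨hBK, ?_⟩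
  rw [hBK] at e5 e7
  have h3 : Nat.card K * (Nat.card S * K.relIndex A) = Nat.card K * Nat.card W := by
    rw [← hf, ← e5]
    ring
  have h4 : Nat.card S * K.relIndex A = Nat.card W := Nat.eq_of_mul_eq_mul_left Nat.card_pos h3
  have h5 : U ⊔ S ≤ W := sup_le hUW inf_le_left
  have h6 : U ⊔ S = W := eq_of_le_of_card_ge h5 (by rw [← h4]; exact e7)
  exact h6.ge

end count

end Cfsg.Agent.Omega.NO3S.SN.RTwo

end

section


/-!
# THEOREM R2 (helper695 #24008), (4) and (5)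

`V` is the line `l` of the text, `E ≤ O₂(C(V))` an atom which moves `W_ij(V)`.

* `AA V W ε k` : the join of the atoms in `QQ_k(V)`;
* `NrmS W` : (1), the normaliser trick; `EndS V W ε` : (3), the end (hypotheses here);
* `Fr.end_of` : `[W, E]` is centralised by all atoms of `QQ_k(s)`, `s ∈ V^{X_ij}`, (H0) at the pair `ij`: contradiction;
* `Fr.four` : (4) CASE 2; `Fr.five` : (5) CASE 1a.
-/

set_option autoImplicit false
set_option linter.unusedSectionVars false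

namespace Cfsg.Agent.Omega.NO3S.SN.RTwo

open Subgroup Cfsg Cfsg.Agent.ZN Cfsg.Agent.Omega.S5.Def
open Cfsg.Agent.Omega.NO3S.SN.R1
open Cfsg.Agent.Omega.FFThm (ElemM)
open Cfsg.Agent.MinSimple.VModule
open scoped Pointwise

universe u

variable {G : Type u} [Group G] {n : ℕ}

/-- the join of the atoms in `QQ_k(V)` -/
def AA (V W : Subgroup G) (ε : (Fin n → ZMod 2) → G) (k : Fin n) : Subgroup G :=
  sSup {A | At W A ∧ A ≤ QQ V W ε k}

/-- **(1)**, the normaliser trick -/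
def NrmS (W : Subgroup G) : Prop :=
  ∀ (A P : Subgroup G) (e : G), At W A → NOv W P → A ≤ P → MulAut.conj e • A ≤ P → e ∈ normalizer (W : Set G) →
    (∀ w ∈ W, e * w * e⁻¹ * w⁻¹ ∈ centralizer (A : Set G)) → MulAut.conj e • A = A

/-- **(3)**, the end -/
def EndS [NeZero n] (V W : Subgroup G) (ε : (Fin n → ZMod 2) → G) : Prop :=
  ∀ (E : Subgroup G) (i j : Fin n), At W E → E ≤ OV V W → i ≠ 0 → j ≠ 0 → i ≠ j →
    ¬ E ≤ centralizer (WI V ε i j : Set G) →
    (∀ x ∈ YG ε {i, j}, ∀ k : Fin n, k ≠ 0 → ∀ e ∈ E,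
      e ∈ normalizer (AA (MulAut.conj x • V) W (cε x ε) k : Set G)) → False

/-! ### Tools -/

theorem exists_mul_sup {A B : Subgroup G} (hn : B ≤ normalizer (A : Set G)) {x : G} (hx : x ∈ A ⊔ B) :
    ∃ a ∈ A, ∃ b ∈ B, x = a * b := by
  rw [sup_eq_closure] at hx
  refine closure_induction (p := fun x _ => ∃ a ∈ A, ∃ b ∈ B, x = a * b) ?_ ?_ ?_ ?_ hx
  · rintro y (hy | hy)
    · exact ⟨y, hy, 1, one_mem _, (mul_one y).symm⟩
    · exact ⟨1, one_mem _, y, hy, (one_mul y).symm⟩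
  · exact ⟨1, one_mem _, 1, one_mem _, (one_mul 1).symm⟩
  · rintro _ _ _ _ ⟨a, ha, b, hb, rfl⟩ ⟨a', ha', b', hb', rfl⟩
    refine ⟨a * (b * a' * b⁻¹), mul_mem ha ((mem_normalizer_iff.1 (hn hb) a').1 ha'), b * b', mul_mem hb hb', ?_⟩
    group
  · rintro _ _ ⟨a, ha, b, hb, rfl⟩
    refine ⟨b⁻¹ * a⁻¹ * b⁻¹⁻¹, (mem_normalizer_iff.1 (hn (inv_mem hb)) a⁻¹).1 (inv_mem ha), b⁻¹, inv_mem hb, ?_⟩
    group

theorem o2_cj_le (g : G) (L : Subgroup G) : MulAut.conj g • o2 L ≤ o2 (MulAut.conj g • L) := by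
  refine le_o2 (cj_mono (o2_le L)) ((o2_isPGroup L).map _) ?_
  rw [cj_normalizer]
  exact cj_mono (le_normalizer_o2 L)

theorem o2_cj (g : G) (L : Subgroup G) : o2 (MulAut.conj g • L) = MulAut.conj g • o2 L := by
  refine le_antisymm ?_ (o2_cj_le g L)
  have h1 := cj_mono (g := g) (o2_cj_le g⁻¹ (MulAut.conj g • L))
  rwa [cj_cj_inv, cj_inv_cj] at h1

theorem cj_sup (g : G) (A B : Subgroup G) : MulAut.conj g • (A ⊔ B) = MulAut.conj g • A ⊔ MulAut.conj g • B := by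
  apply le_antisymm
  · have h1 : A ⊔ B ≤ MulAut.conj g⁻¹ • (MulAut.conj g • A ⊔ MulAut.conj g • B) := by
      refine sup_le ?_ ?_
      · have h2 := cj_mono (g := g⁻¹) (le_sup_left : MulAut.conj g • A ≤ MulAut.conj g • A ⊔ MulAut.conj g • B)
        rwa [cj_inv_cj] at h2
      · have h2 := cj_mono (g := g⁻¹) (le_sup_right : MulAut.conj g • B ≤ MulAut.conj g • A ⊔ MulAut.conj g • B)
        rwa [cj_inv_cj] at h2
    have h3 := cj_mono (g := g) h1
    rwa [cj_cj_inv] at h3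
  · exact sup_le (cj_mono le_sup_left) (cj_mono le_sup_right)

theorem cj_QQ (g : G) (V W : Subgroup G) (ε : (Fin n → ZMod 2) → G) (k : Fin n) :
    QQ (MulAut.conj g • V) (MulAut.conj g • W) (cε g ε) k = MulAut.conj g • QQ V W ε k := by
  rw [QQ, QQ, cj_PM, o2_cj, cj_centralizer', cj_sup]

theorem cj_PP (g : G) (V W : Subgroup G) (ε : (Fin n → ZMod 2) → G) (i j : Fin n) :
    PP (MulAut.conj g • V) (MulAut.conj g • W) (cε g ε) i j = MulAut.conj g • PP V W ε i j := by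
  rw [PP, PP, cj_WI, cj_centralizer', o2_cj, cj_centralizer', cj_sup]

theorem cj_OV (g : G) (V W : Subgroup G) :
    OV (MulAut.conj g • V) (MulAut.conj g • W) = MulAut.conj g • OV V W := by
  rw [OV, OV, cj_centralizer', o2_cj, cj_centralizer', cj_sup]

theorem relIndex_le_of_mul [Finite G] {H A B : Subgroup G} (hAB : A ≤ B) (h : ∀ b ∈ B, ∃ a ∈ A, ∃ c ∈ H, b = a * c) :
    H.relIndex B ≤ H.relIndex A := by
  refine Nat.card_le_card_of_surjective (quotientSubgroupOfEmbeddingOfLE H hAB) ?_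
  intro q
  obtain ⟨b, rfl⟩ := QuotientGroup.mk_surjective q
  obtain ⟨a, ha, c, hc, he⟩ := h b.1 b.2
  refine ⟨QuotientGroup.mk ⟨a, ha⟩, ?_⟩
  rw [quotientSubgroupOfEmbeddingOfLE_apply_mk, QuotientGroup.eq, mem_subgroupOf]
  change a⁻¹ * b.1 ∈ H
  rw [he, inv_mul_cancel_left]
  exact hc

/-- `W_ij(s) = W_ij(V)` for `s ∈ V^{X_ij}` -/
theorem WI_eq {V : Subgroup G} {ε : (Fin n → ZMod 2) → G} {i j : Fin n} {x : G} (hx : x ∈ YG ε {i, j}) :
    WI (MulAut.conj x • V) (cε x ε) i j = WI V ε i j := by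
  have h : x ∈ normalizer (WI V ε i j : Set G) := le_normalizer_Cl V _ hx
  rw [cj_WI, cj_eq_of_mem h]

/-- `U_Γ(s) = U_Γ(V)` for `s ∈ V^{X_ij}`, `i, j ∈ Γ` -/
theorem PU_eq {V : Subgroup G} {ε : (Fin n → ZMod 2) → G} {Γ : Finset (Fin n)} {i j : Fin n} (hi : i ∈ Γ)
    (hj : j ∈ Γ) (hij : i ≠ j) {x : G} (hx : x ∈ YG ε {i, j}) :
    PU (MulAut.conj x • V) (cε x ε) Γ = PU V ε Γ := by
  have h1 : x ∈ PY V ε Γ := subset_closure (Or.inr ⟨i, hi, j, hj, hij, hx⟩)
  have h2 : x ∈ normalizer (PU V ε Γ : Set G) := le_normalizer_Cl V _ h1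
  rw [cj_PU, cj_eq_of_mem h2]

variable [Finite G] [NeZero n] {V W E : Subgroup G} {ε : (Fin n → ZMod 2) → G}

namespace Fr

theorem n3 (h : Fr V W ε) : 3 ≤ n := by have := h.n5; omega

theorem CV_le_PM (h : Fr V W ε) (k : Fin n) : centralizer (V : Set G) ≤ PM V ε k := by
  intro g hg
  refine subset_closure (Or.inl ⟨centralizer_le_normalizer _ hg, ?_⟩)
  have h1 := mem_centralizer_iff.1 hg _ (h.ev.mem (Pi.single k 1))
  change g * ε (Pi.single k 1) * g⁻¹ = ε (Pi.single k 1)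
  rw [← h1, mul_inv_cancel_right]

theorem YG_le_PM (ε : (Fin n → ZMod 2) → G) (V : Subgroup G) {i j k : Fin n} (hi : i ≠ k) (hj : j ≠ k)
    (hij : i ≠ j) : YG ε {i, j} ≤ PM V ε k := fun _ hg => subset_closure (Or.inr ⟨i, j, hi, hj, hij, hg⟩)

theorem VW (h : Fr V W ε) : V ≤ W := by
  rw [h.Weq]
  exact le_Cl _ _

theorem PM_norm (h : Fr V W ε) : PM V ε 0 ≤ normalizer (W : Set G) := by
  rw [h.Weq]
  exact le_normalizer_Cl _ _

theorem WI_le (h : Fr V W ε) {i j : Fin n} (hi : i ≠ 0) (hj : j ≠ 0) (hij : i ≠ j) : WI V ε i j ≤ W :=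
  Cl_le h.VW ((YG_le_PM ε V hi hj hij).trans h.PM_norm)

theorem OV_le (h : Fr V W ε) : OV V W ≤ centralizer (V : Set G) :=
  sup_le (o2_le _) (centralizer_le h.VW)

theorem YG_norm (h : Fr V W ε) {i j : Fin n} (hi : i ≠ 0) (hj : j ≠ 0) (hij : i ≠ j) {x : G}
    (hx : x ∈ YG ε {i, j}) : x ∈ normalizer (W : Set G) := h.PM_norm (YG_le_PM ε V hi hj hij hx)

theorem kX (h : Fr V W ε) {i j : Fin n} (hi : i ≠ 0) (hj : j ≠ 0) : IsKGroup (YG ε {i, j}) := by
  have h1 : YG ε {i, j} ≤ centralizer ({zz ε 0} : Set G) := by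
    refine centralizer_le ?_
    rw [Set.singleton_subset_iff]
    refine (mem_VG_iff h.ev).2 (cst_single ?_)
    simp only [Finset.mem_insert, Finset.mem_singleton, not_or]
    exact ⟨hi.symm, hj.symm⟩
  exact ML.Final.kgroup_of_surj h.kg ((YG ε {i, j}).subgroupOf _) (subgroupOfEquivOfLe h1).toMonoidHom
    (subgroupOfEquivOfLe h1).surjective

/-- `QQ_k ∩ C(W_ij) ≤ P_ij` -/
theorem QQ_inf_le (h : Fr V W ε) {i j : Fin n} (k : Fin n) (hi : i ≠ 0) (hj : j ≠ 0) (hij : i ≠ j) :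
    QQ V W ε k ⊓ centralizer (WI V ε i j : Set G) ≤ PP V W ε i j := by
  have h0 : centralizer (W : Set G) ≤ centralizer (WI V ε i j : Set G) := centralizer_le (h.WI_le hi hj hij)
  have h1 : centralizer (WI V ε i j : Set G) ≤ centralizer (V : Set G) := centralizer_le (le_Cl _ _)
  have h2 : o2 (PM V ε k) ⊓ centralizer (WI V ε i j : Set G) ≤ o2 (centralizer (WI V ε i j : Set G)) := by
    refine le_o2 inf_le_right ((o2_isPGroup _).to_le inf_le_left) ?_
    intro g hg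
    have h3 : g ∈ normalizer (o2 (PM V ε k) : Set G) := le_normalizer_o2 _ (h.CV_le_PM k (h1 hg))
    have h4 : g ∈ normalizer (centralizer (WI V ε i j : Set G) : Set G) := le_normalizer hg
    rw [mem_normalizer_iff]
    intro x
    rw [mem_inf, mem_inf, mem_normalizer_iff.1 h3 x, mem_normalizer_iff.1 h4 x]
  have hN : centralizer (W : Set G) ≤ normalizer (o2 (PM V ε k) : Set G) :=
    ((centralizer_le h.VW).trans (h.CV_le_PM k)).trans (le_normalizer_o2 _)
  intro x hx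
  obtain ⟨a, ha, b, hb, rfl⟩ := exists_mul_sup hN hx.1
  have h5 : a ∈ centralizer (WI V ε i j : Set G) := by
    have h7 : b ∈ centralizer (WI V ε i j : Set G) := h0 hb
    have h6 : a * b ∈ centralizer (WI V ε i j : Set G) := hx.2
    exact (mul_mem_cancel_right h7).1 h6
  exact mul_mem (mem_sup_left (h2 ⟨ha, h5⟩)) (mem_sup_right hb)

/-- elements of `X_ij` normalise `P_ij` -/
theorem norm_PP (h : Fr V W ε) {i j : Fin n} (hi : i ≠ 0) (hj : j ≠ 0) (hij : i ≠ j) {x : G}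
    (hx : x ∈ YG ε {i, j}) : MulAut.conj x • PP V W ε i j = PP V W ε i j := by
  rw [← cj_PP, cj_eq_of_mem (h.YG_norm hi hj hij hx), PP, WI_eq hx, PP]

/-- atoms of `QQ_k(s)` centralising `W_ij` are in `P_ij`, `s ∈ V^{X_ij}` -/
theorem le_PP (h : Fr V W ε) {i j k : Fin n} (hi : i ≠ 0) (hj : j ≠ 0) (hij : i ≠ j) {x : G}
    (hx : x ∈ YG ε {i, j}) {A : Subgroup G} (hA : A ≤ QQ (MulAut.conj x • V) W (cε x ε) k)
    (hAc : A ≤ centralizer (WI V ε i j : Set G)) : A ≤ PP V W ε i j := by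
  have hxW : MulAut.conj x • W = W := cj_eq_of_mem (h.YG_norm hi hj hij hx)
  have h1 : A ≤ MulAut.conj x • QQ V W ε k := by
    rw [← cj_QQ, hxW]
    exact hA
  have h2 : MulAut.conj x • centralizer (WI V ε i j : Set G) = centralizer (WI V ε i j : Set G) := by
    have h : x ∈ normalizer (WI V ε i j : Set G) := le_normalizer_Cl V _ hx
    rw [← cj_centralizer', cj_eq_of_mem h]
  have h3 : MulAut.conj x⁻¹ • A ≤ QQ V W ε k ⊓ centralizer (WI V ε i j : Set G) := by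
    refine le_inf ?_ ?_
    · have h4 := cj_mono (g := x⁻¹) h1
      rwa [cj_inv_cj] at h4
    · have h4 := cj_mono (g := x⁻¹) hAc
      rw [← h2, cj_inv_cj] at h4
      exact h4
  have h5 := cj_mono (g := x) (h3.trans (h.QQ_inf_le k hi hj hij))
  rw [cj_cj_inv, h.norm_PP hi hj hij hx] at h5
  exact h5

/-- `E` normalises all atoms of all `QQ_k(s)`: the end -/
theorem end_of (h : Fr V W ε) (hN : NrmS W) (hEnd : EndS V W ε) {i j : Fin n} (hi : i ≠ 0) (hj : j ≠ 0)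
    (hij : i ≠ j) (hno : NOv W (PP V W ε i j)) (hE : At W E) (hOV : E ≤ OV V W)
    (hmv : ¬ E ≤ centralizer (WI V ε i j : Set G))
    (hH0 : ∀ x ∈ YG ε {i, j}, ∀ k : Fin n, k ≠ 0 → ∀ A : Subgroup G, At W A →
      A ≤ QQ (MulAut.conj x • V) W (cε x ε) k → A ≤ centralizer (WI V ε i j : Set G))
    (hc : ∀ x ∈ YG ε {i, j}, ∀ k : Fin n, k ≠ 0 → ∀ A : Subgroup G, At W A →
      A ≤ QQ (MulAut.conj x • V) W (cε x ε) k → ∀ e ∈ E, ∀ w ∈ W, e * w * e⁻¹ * w⁻¹ ∈ centralizer (A : Set G)) :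
    False := by
  have hEY : E ≤ YG ε {i, j} := (hOV.trans h.OV_le).trans (centralizer_le_YG h.ev _)
  refine hEnd E i j hE hOV hi hj hij hmv fun x hx k hk e he => ?_
  have key : ∀ A : Subgroup G, At W A → A ≤ QQ (MulAut.conj x • V) W (cε x ε) k → MulAut.conj e • A = A := by
    intro A hA hAQ
    have h1 : A ≤ PP V W ε i j := h.le_PP hi hj hij hx hAQ (hH0 x hx k hk A hA hAQ)
    refine hN A _ e hA hno h1 ?_ (h.YG_norm hi hj hij (hEY he)) (hc x hx k hk A hA hAQ e he)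
    rw [← h.norm_PP hi hj hij (hEY he)]
    exact cj_mono h1
  refine mem_norm_of_cj (le_antisymm ?_ ?_)
  · have h3 : AA (MulAut.conj x • V) W (cε x ε) k ≤
        MulAut.conj e⁻¹ • AA (MulAut.conj x • V) W (cε x ε) k := by
      refine sSup_le fun A hA => ?_
      have h2 : MulAut.conj e⁻¹ • MulAut.conj e • A ≤ MulAut.conj e⁻¹ • AA (MulAut.conj x • V) W (cε x ε) k := by
        rw [key A hA.1 hA.2]
        exact cj_mono (le_sSup hA)
      rwa [cj_inv_cj] at h2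
    have h4 := cj_mono (g := e) h3
    rwa [cj_cj_inv] at h4
  · refine sSup_le fun A hA => ?_
    rw [← key A hA.1 hA.2]
    exact cj_mono (le_sSup hA)

/-- **(4)** -/
theorem four (h : Fr V W ε) (hN : NrmS W) (hEnd : EndS V W ε) {Γ : Finset (Fin n)} {i j : Fin n} (hiΓ : i ∈ Γ)
    (hjΓ : j ∈ Γ) (hi : i ≠ 0) (hj : j ≠ 0) (hij : i ≠ j) (hno : NOv W (PP V W ε i j)) (hE : At W E)
    (hOV : E ≤ OV V W) (hmv : ¬ E ≤ centralizer (WI V ε i j : Set G))
    (hH0 : ∀ x ∈ YG ε {i, j}, ∀ k : Fin n, k ≠ 0 → ∀ A : Subgroup G, At W A →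
      A ≤ QQ (MulAut.conj x • V) W (cε x ε) k → A ≤ centralizer (WI (MulAut.conj x • V) (cε x ε) i j : Set G))
    (hU : ∀ x ∈ YG ε {i, j}, ∀ k : Fin n, k ≠ 0 → ∀ A : Subgroup G, At W A →
      A ≤ QQ (MulAut.conj x • V) W (cε x ε) k → A ≤ centralizer (PU (MulAut.conj x • V) (cε x ε) Γ : Set G))
    (hcm : ∀ e ∈ E, ∀ w ∈ W, e * w * e⁻¹ * w⁻¹ ∈ PU V ε Γ) : False := by
  refine h.end_of hN hEnd hi hj hij hno hE hOV hmv ?_ ?_
  · intro x hx k hk A hA hAQ
    have h1 := hH0 x hx k hk A hA hAQ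
    rwa [WI_eq hx] at h1
  · intro x hx k hk A hA hAQ e he w hw
    have h1 := hU x hx k hk A hA hAQ
    rw [PU_eq hiΓ hjΓ hij hx] at h1
    refine mem_centralizer_iff.2 fun a ha => ?_
    exact (mem_centralizer_iff.1 (h1 ha) _ (hcm e he w hw)).symm

/-- **(5)** -/
theorem five (hML : ML.Final.MLK.{u, u}) (h : Fr V W ε) (hN : NrmS W) (hEnd : EndS V W ε) {i j : Fin n}
    (hi : i ≠ 0) (hj : j ≠ 0) (hij : i ≠ j) (hno : NOv W (PP V W ε i j)) (hE : At W E) (hOV : E ≤ OV V W)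
    (hmv : ¬ E ≤ centralizer (WI V ε i j : Set G))
    (hH0 : ∀ x ∈ YG ε {i, j}, ∀ k : Fin n, k ≠ 0 → ∀ A : Subgroup G, At W A →
      A ≤ QQ (MulAut.conj x • V) W (cε x ε) k → A ≤ centralizer (WI (MulAut.conj x • V) (cε x ε) i j : Set G))
    (hNC : ∀ x ∈ YG ε {i, j}, ∀ e ∈ E, e ∈ normalizer ((MulAut.conj x • V : Subgroup G) : Set G) →
      e ∈ centralizer ((MulAut.conj x • V : Subgroup G) : Set G)) : False := by
  have hUW : WI V ε i j ≤ W := h.WI_le hi hj hij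
  have hKU : centralizer (W : Set G) ≤ centralizer (WI V ε i j : Set G) := centralizer_le hUW
  have hKV : centralizer (W : Set G) ≤ centralizer (V : Set G) := centralizer_le h.VW
  -- `E = E₁ C(W)`
  set E₁ : Subgroup G := E ⊓ o2 (centralizer (V : Set G)) with hE₁
  have hEE : ∀ e ∈ E, ∃ a ∈ E₁, ∃ b ∈ centralizer (W : Set G), e = a * b := by
    intro e he
    obtain ⟨a, ha, b, hb, rfl⟩ := exists_mul_sup (A := o2 (centralizer (V : Set G))) (B := centralizer (W : Set G))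
      (hKV.trans (le_normalizer_o2 _)) (hOV he)
    exact ⟨a, ⟨(mul_mem_cancel_right (hE.le hb)).1 he, ha⟩, b, hb, rfl⟩
  have hsup : E = E₁ ⊔ centralizer (W : Set G) := by
    refine le_antisymm (fun e he => ?_) (sup_le inf_le_left hE.le)
    obtain ⟨a, ha, b, hb, rfl⟩ := hEE e he
    exact mul_mem (mem_sup_left ha) (mem_sup_right hb)
  have hVG : VG ε {i, j} ≤ V := VG_le h.ev _
  -- `(ML)` on `W_ij / V_ij`
  have hml : (centralizer (WI V ε i j : Set G)).relIndex E₁ ≤ (centralizer (E₁ : Set G)).relIndex (WI V ε i j) := by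
    refine pair_ml hML h.ev h.n3 hij (h.kX hi hj) (fun a ha b hb => h.Wc a (hUW ha) b (hUW hb))
      (fun a ha => h.Ws a (hUW ha)) (h.syl {i, j} ?_) inf_le_right (fun a ha => hKU (hE.el.sq a ha.1)) ?_
    · simp only [Finset.mem_insert, Finset.mem_singleton, not_or]
      exact ⟨hi.symm, hj.symm⟩
    · intro a ha hfix
      have key : ∀ x ∈ YG ε {i, j}, a ∈ centralizer ((MulAut.conj x • V : Subgroup G) : Set G) := by
        intro x hx
        refine hNC x hx a ha.1 (mem_normalizer_of_map_le ?_)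
        rintro _ ⟨v, hv, rfl⟩
        change a * v * a⁻¹ ∈ MulAut.conj x • V
        have h1 : v ∈ WI V ε i j := by
          have h2 : x⁻¹ * v * x ∈ V := mem_cj.1 hv
          have h3 : v = x * (x⁻¹ * v * x) * x⁻¹ := by group
          rw [h3]
          exact conj_mem_Cl hx h2
        have h2 : VG ε {i, j} ≤ MulAut.conj x • V := by
          intro y hy
          have h3 : x * y * x⁻¹ = y := by rw [← mem_centralizer_iff.1 hx y hy, mul_inv_cancel_right]
          rw [← h3]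
          exact cj_mem (hVG hy)
        have h4 := mul_mem (h2 (hfix v h1)) hv
        rwa [inv_mul_cancel_right] at h4
      rw [mem_centralizer_iff]
      have h5 : WI V ε i j ≤ centralizer ({a} : Set G) := by
        rw [WI, Cl, closure_le]
        rintro _ ⟨x, hx, v, hv, rfl⟩
        rw [SetLike.mem_coe, mem_centralizer_singleton_iff]
        exact mem_centralizer_iff.1 (key x hx) _ (cj_mem hv)
      intro u hu
      exact mem_centralizer_singleton_iff.1 (h5 hu)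
  -- transfer to `E`
  have hcE : WI V ε i j ⊓ centralizer (E₁ : Set G) ≤ centralizer (E : Set G) := by
    rintro u ⟨hu, hu2⟩
    refine mem_centralizer_iff.2 fun e he => ?_
    obtain ⟨a, ha, b, hb, rfl⟩ := hEE e he
    have h1 := mem_centralizer_iff.1 hu2 a ha
    have h2 := mem_centralizer_iff.1 hb u (hUW hu)
    rw [mul_assoc, ← h2, ← mul_assoc, h1, mul_assoc]
  have hind : (centralizer (WI V ε i j : Set G)).relIndex E ≤ (centralizer (E : Set G)).relIndex (WI V ε i j) := by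
    have e1 : (centralizer (WI V ε i j : Set G)).relIndex E ≤ (centralizer (WI V ε i j : Set G)).relIndex E₁ :=
      relIndex_le_of_mul inf_le_left fun e he => by
        obtain ⟨a, ha, b, hb, rfl⟩ := hEE e he
        exact ⟨a, ha, b, hKU hb, rfl⟩
    have e2 : (centralizer (E : Set G)).relIndex (WI V ε i j) = (centralizer (E₁ : Set G)).relIndex (WI V ε i j) := by
      rw [← inf_relIndex_right (centralizer (E : Set G)), ← inf_relIndex_right (centralizer (E₁ : Set G))]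
      congr 1
      refine le_antisymm (inf_le_inf_right _ (centralizer_le inf_le_left)) (le_inf ?_ inf_le_right)
      rw [inf_comm]
      exact hcE
    rw [e2]
    exact e1.trans hml
  have hex := (exact_of hUW hE.le le_rfl (fun B h1 h2 => (hE.min B h1 h2).trans_eq hE.tight.symm) hE.tight hmv hind).2
  have hcm : ∀ e ∈ E, ∀ w ∈ W, e * w * e⁻¹ * w⁻¹ ∈ WI V ε i j := by
    obtain ⟨C, hC⟩ := exists_cm h.Wc hUW E
    have hWC : W ≤ C := by
      refine hex.trans (sup_le ?_ ?_)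
      · intro u hu
        refine (hC u).2 ⟨hUW hu, fun e he => ?_⟩
        have hn : e ∈ normalizer (WI V ε i j : Set G) :=
          le_normalizer_Cl V _ (centralizer_le_YG h.ev _ (h.OV_le (hOV he)))
        exact mul_mem ((mem_normalizer_iff.1 hn u).1 hu) (inv_mem hu)
      · rintro w ⟨hw, hw2⟩
        refine (hC w).2 ⟨hw, fun e he => ?_⟩
        rw [mem_centralizer_iff.1 hw2 e he, mul_inv_cancel_right, mul_inv_cancel]
        exact one_mem _
    exact fun e he w hw => ((hC w).1 (hWC hw)).2 e he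
  refine h.end_of hN hEnd hi hj hij hno hE hOV hmv ?_ ?_
  · intro x hx k hk A hA hAQ
    have h1 := hH0 x hx k hk A hA hAQ
    rwa [WI_eq hx] at h1
  · intro x hx k hk A hA hAQ e he w hw
    have h1 := hH0 x hx k hk A hA hAQ
    rw [WI_eq hx] at h1
    refine mem_centralizer_iff.2 fun a ha => ?_
    exact (mem_centralizer_iff.1 (h1 ha) _ (hcm e he w hw)).symm

end Fr

end Cfsg.Agent.Omega.NO3S.SN.RTwo

end

section


/-!
# THEOREM R1 (helper430 #22327), step (2): relative form (helper237 #22246, helper695 #24008 (0))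

`V_Γ`, `Γ = {i,j,k}`; `Y ≤ C_G(V_Γ)` is any group with `N_G(V) ∩ C_G(V_Γ) ≤ Y` and `C_G(V_ij), C_G(V_ik) ≤ Y` (e.g.
generated by these groups).  `W` is any elementary abelian group normalised by `Y` with `V ≤ W`.

* `YDat` : the data;
* `YDat.cent` : `C_Y(U/V_Γ) = C_Y(U)`, `U = ⟨V^Y⟩`;
* `YDat.off` : for `B ≤ O₂(C_G(V))` centralising `U_ij`, with `B² ≤ C(U)`: `|B : C_B(U)| ≤ |U : C_U(B)|`;
* `YDat.two` : the conclusion of `Ln.two` for `Cl V Y` in place of `UG V ε Γ`.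
-/

set_option autoImplicit false
set_option linter.unusedSectionVars false

namespace Cfsg.Agent.Omega.NO3S.SN.R1

open Subgroup Cfsg Cfsg.Agent.ZN Cfsg.Agent.Omega.S5.Def
open Cfsg.Agent.Omega.FFThm (ElemM)
open Cfsg.Agent.MinSimple.VModule

universe u

variable {G : Type u} [Group G] {n : ℕ}

/-- the data for `Y` -/
structure YDat (V : Subgroup G) (ε : (Fin n → ZMod 2) → G) (W Y : Subgroup G) (i j k : Fin n) : Prop where
  n5 : 5 ≤ n
  ev : EvenSet n V (normalizer (V : Set G)) ε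
  ij : i ≠ j
  ik : i ≠ k
  jk : j ≠ k
  /-- `Y ≤ C_G(V_Γ)` -/
  YV : Y ≤ YG ε {i, j, k}
  /-- `N_G(V) ∩ C_G(V_Γ) ≤ Y` -/
  NY : normalizer (V : Set G) ⊓ YG ε {i, j, k} ≤ Y
  VW : V ≤ W
  YW : Y ≤ normalizer (W : Set G)
  Wc : ∀ a ∈ W, ∀ b ∈ W, a * b = b * a
  Ws : ∀ a ∈ W, a * a = 1
  fus : ∀ g ∈ Y, g * zz ε k * g⁻¹ ∈ V → ∃ m, g * zz ε k * g⁻¹ = zz ε m
  syl : ∃ T : Subgroup G, T ≤ Y ∧ T ≤ normalizer (V : Set G) ∧ IsPGroup 2 T ∧ ¬ 2 ∣ T.relIndex Y
  kg : IsKGroup Y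

section facts

variable [Finite G] {V W Y A B : Subgroup G} {ε : (Fin n → ZMod 2) → G} {i j k : Fin n}

theorem YDat.n3 (h : YDat V ε W Y i j k) : 3 ≤ n := by have := h.n5; omega

theorem YDat.card (h : YDat V ε W Y i j k) : ({i, j, k} : Finset (Fin n)).card = 3 :=
  Finset.card_eq_three.2 ⟨i, j, k, h.ij, h.ik, h.jk, rfl⟩

theorem YDat.UW (h : YDat V ε W Y i j k) : Cl V Y ≤ W := Cl_le h.VW h.YW

/-- a permutation of `{i,j,k}` is induced by an element of `Y` -/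
theorem YDat.exists_acts (h : YDat V ε W Y i j k) {a b : Fin n} (ha : a ∈ ({i, j, k} : Finset (Fin n)))
    (hb : b ∈ ({i, j, k} : Finset (Fin n))) :
    ∃ g ∈ Y, g ∈ normalizer (V : Set G) ∧ Acts ε g (Equiv.swap a b) := by
  obtain ⟨g, hg, hσ⟩ := h.ev.full (Equiv.swap a b)
  refine ⟨g, h.NY ⟨hg, mem_YG_of_acts h.ev hσ fun m hm => ?_⟩, hg, hσ⟩
  refine Equiv.swap_apply_of_ne_of_ne ?_ ?_
  · rintro rfl
    exact hm ha
  · rintro rfl
    exact hm hb

theorem YDat.exists_syl (h : YDat V ε W Y i j k) :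
    ∃ T : Subgroup G, T ≤ Y ∧ T ≤ normalizer (V : Set G) ∧ IsPGroup 2 T ∧ ¬ 2 ∣ T.relIndex Y ∧
      ∀ t ∈ T, t * zz ε k * t⁻¹ = zz ε k := by
  obtain ⟨T, h1, h2, h3, h4⟩ := h.syl
  obtain ⟨c, hc, h5⟩ := exists_fix h.ev h.n3 (by rw [h.card]; decide) h3 (h1.trans h.YV) h2
  obtain ⟨g, hgY, hg, hσ⟩ := h.exists_acts (a := c) (b := k) hc (by simp)
  have e1 : Y.map (MulAut.conj g).toMonoidHom = Y :=
    mem_normalizer_iff_map_conj_eq.mp (le_normalizer hgY)
  refine ⟨T.map (MulAut.conj g).toMonoidHom, ?_, ?_, h3.map _, ?_, ?_⟩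
  · rintro _ ⟨t, ht, rfl⟩
    exact mul_mem (mul_mem hgY (h1 ht)) (inv_mem hgY)
  · rintro _ ⟨t, ht, rfl⟩
    exact mul_mem (mul_mem hg (h2 ht)) (inv_mem hg)
  · intro h6
    rw [← e1, relIndex_map_map_of_injective _ _ (MulAut.conj g).injective] at h6
    exact h4 h6
  · rintro _ ⟨t, ht, rfl⟩
    change g * t * g⁻¹ * zz ε k * (g * t * g⁻¹)⁻¹ = zz ε k
    have h6 : g * zz ε c * g⁻¹ = zz ε k := by
      have h7 := hσ.single c
      rw [Equiv.swap_apply_left] at h7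
      exact h7
    rw [← h6]
    calc g * t * g⁻¹ * (g * zz ε c * g⁻¹) * (g * t * g⁻¹)⁻¹ = g * (t * zz ε c * t⁻¹) * g⁻¹ := by group
      _ = g * zz ε c * g⁻¹ := by rw [h5 t ht]

/-- `C_Y(U / V_Γ) = C_Y(U)` -/
theorem YDat.cent (h : YDat V ε W Y i j k) {a : G} (ha : a ∈ Y)
    (hc : ∀ x ∈ Cl V Y, a * x * a⁻¹ * x⁻¹ ∈ VG ε {i, j, k}) : a ∈ centralizer (Cl V Y : Set G) := by
  have key : ∀ y ∈ Y, ∀ v ∈ V, a * (y * v * y⁻¹) = y * v * y⁻¹ * a := by
    intro y hy
    set b := y⁻¹ * a * y with hb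
    have hbY : b ∈ Y := mul_mem (mul_mem (inv_mem hy) ha) hy
    have h1 : ∀ v ∈ V, b * v * b⁻¹ * v⁻¹ ∈ VG ε {i, j, k} := by
      intro v hv
      have h2 := hc _ (conj_mem_Cl hy hv)
      obtain ⟨x, hx, he⟩ := (mem_VG h.ev).1 h2
      have h3 := (mem_YG h.ev).1 (h.YV (inv_mem hy)) x hx
      rw [he] at h3
      have h4 : b * v * b⁻¹ * v⁻¹ =
          y⁻¹ * (a * (y * v * y⁻¹) * a⁻¹ * (y * v * y⁻¹)⁻¹) * y⁻¹⁻¹ := by rw [hb]; group
      rw [h4, h3]
      exact h2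
    have h2 : b ∈ normalizer (V : Set G) := by
      refine mem_normalizer_of_map_le ?_
      rintro _ ⟨v, hv, rfl⟩
      change b * v * b⁻¹ ∈ V
      have h3 := mul_mem (VG_le h.ev {i, j, k} (h1 v hv)) hv
      rwa [inv_mul_cancel_right] at h3
    obtain ⟨σ, hσ⟩ := h.ev.perm b h2
    have h3 : σ = 1 := by
      ext m
      congr 1
      change σ m = m
      by_cases hm : m ∈ ({i, j, k} : Finset (Fin n))
      · refine eq_of_mem_VG h.ev h.card.ge hm ?_
        have h4 := h1 _ (h.ev.mem (Pi.single m 1))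
        rw [hσ.single, h.ev.inv] at h4
        exact h4
      · exact acts_fix h.ev h.n3 hσ (h.YV hbY) hm
    subst h3
    have h4 := h.ev.acts_one_iff.1 hσ
    intro v hv
    have h5 := mem_centralizer_iff.1 h4 v hv
    calc a * (y * v * y⁻¹) = y * (b * v) * y⁻¹ := by rw [hb]; group
      _ = y * (v * b) * y⁻¹ := by rw [h5]
      _ = y * v * y⁻¹ * a := by rw [hb]; group
  rw [mem_centralizer_iff]
  intro x hx
  refine closure_induction (p := fun x _ => x * a = a * x) ?_ ?_ ?_ ?_ hx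
  · rintro _ ⟨y, hy, v, hv, rfl⟩
    exact (key y hy v hv).symm
  · rw [one_mul, mul_one]
  · intro x y _ _ h1 h2
    rw [mul_assoc, h2, ← mul_assoc, h1, mul_assoc]
  · intro x _ h1
    have h2 : Commute x a := h1
    exact h2.inv_left

/-- the data of (ML) for `Y` on `U / V_Γ`, for `B ≤ O₂(C_G(V))` centralising `U_ij` -/
theorem YDat.gdat (h : YDat V ε W Y i j k) (hB : B ≤ o2 (centralizer (V : Set G)))
    (hf : B ≤ centralizer (UG V ε {i, j} : Set G))
    (hsq : ∀ b ∈ B, b ^ 2 ∈ centralizer (Cl V Y : Set G)) {T : Subgroup G} (hT1 : T ≤ Y) (hT3 : IsPGroup 2 T)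
    (hT4 : ¬ 2 ∣ T.relIndex Y) (hT5 : ∀ t ∈ T, t * zz ε k * t⁻¹ = zz ε k) :
    ML.Final.GDat Y (Cl V Y) (VG ε {i, j, k}) T (o2 (centralizer (UG V ε {i, j} : Set G))) B (zz ε k) := by
  have hGV : VG ε {i, j, k} ≤ V := VG_le h.ev _
  have hVU : V ≤ Cl V Y := le_Cl _ _
  have hQV : o2 (centralizer (UG V ε {i, j} : Set G)) ≤ centralizer (V : Set G) :=
    (o2_le _).trans (centralizer_le (le_Cl _ _))
  have hCY : centralizer (V : Set G) ≤ Y :=
    (le_inf (centralizer_le_normalizer _) (centralizer_le_YG h.ev _)).trans h.NY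
  refine
    { nW := le_normalizer_Cl _ _
      nY := ?_
      YW := hGV.trans hVU
      WY := ?_
      sq := ?_
      mem := hVU (h.ev.mem _)
      gen := ?_
      TC := hT1
      two := hT3
      odd := hT4
      fixT := ?_
      QC := hQV.trans hCY
      Q2 := o2_isPGroup _
      fixQ := ?_
      nrmQ := ?_
      AQ := le_o2_cent (le_Cl _ _) hB hf
      Asq := ?_ }
  · exact h.YV.trans (centralizer_le_normalizer _)
  · intro u hu
    refine centralizer_le_normalizer _ (mem_centralizer_iff.2 fun v hv => ?_)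
    exact h.Wc v (h.VW (hGV hv)) u (h.UW hu)
  · intro x hx
    rw [h.Ws x (h.UW hx)]
    exact one_mem _
  · intro S hS1 hS2 hS3
    refine Cl_le ?_ hS3
    obtain ⟨g, hgY, -, hσ⟩ := h.exists_acts (a := k) (b := i) (by simp) (by simp)
    refine V_le_of h.ev h.ij h.ik h.jk ?_ hS1 hS2
    have h7 := hσ.single k
    rw [Equiv.swap_apply_left] at h7
    change ε (Pi.single i 1) ∈ S
    rw [← h7]
    exact (mem_normalizer_iff.1 (hS3 hgY) _).1 hS1
  · intro t ht
    rw [hT5 t ht, mul_inv_cancel]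
    exact one_mem _
  · intro q hq
    have h1 := mem_centralizer_iff.1 (hQV hq) _ (h.ev.mem (Pi.single k 1))
    change q * ε (Pi.single k 1) * q⁻¹ * (ε (Pi.single k 1))⁻¹ ∈ _
    rw [← h1, mul_inv_cancel_right, mul_inv_cancel]
    exact one_mem _
  · intro g hg hgz q hq
    have h1 : g * zz ε k * g⁻¹ ∈ V := by
      have h2 := mul_mem (hGV hgz) (h.ev.mem (Pi.single k 1))
      have h3 : g * zz ε k * g⁻¹ * (zz ε k)⁻¹ * zz ε k = g * zz ε k * g⁻¹ := inv_mul_cancel_right _ _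
      rw [← h3]
      exact h2
    obtain ⟨m, hm⟩ := h.fus g hg h1
    have h4 : m = k := by
      refine eq_of_mem_VG h.ev h.card.ge (by simp) ?_
      rw [← hm]
      have h5 : (zz ε k)⁻¹ = zz ε k := h.ev.inv _
      rw [h5] at hgz
      exact hgz
    rw [h4] at hm
    have h5 : g ∈ YG ε {i, j} := mem_YG_pair h.ev h.ij h.ik h.jk (h.YV hg) hm
    have h6 : g ∈ normalizer (UG V ε {i, j} : Set G) := le_normalizer_Cl _ _ h5
    exact (mem_normalizer_iff.1 (norm_o2 (norm_cent h6)) q).1 hq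
  · intro a ha x hx
    have h1 := mem_centralizer_iff.1 (hsq a ha) x hx
    have h2 : a * (a * x * a⁻¹) * a⁻¹ * x⁻¹ = a ^ 2 * x * (a ^ 2)⁻¹ * x⁻¹ := by
      rw [pow_two]
      group
    rw [h2, ← h1, mul_inv_cancel_right, mul_inv_cancel]
    exact one_mem _

/-- **(ML) for `Y` on `U / V_Γ`**, strong form: `CW / V_Γ = C_{U/V_Γ}(B)` -/
theorem YDat.offS (h : YDat V ε W Y i j k) (hML : ML.Final.MLK.{u, u}) (hB : B ≤ o2 (centralizer (V : Set G)))
    (hf : B ≤ centralizer (UG V ε {i, j} : Set G)) (hsq : ∀ b ∈ B, b ^ 2 ∈ centralizer (Cl V Y : Set G))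
    {CW : Subgroup G} (hCW : ∀ x, x ∈ CW ↔ x ∈ Cl V Y ∧ ∀ b ∈ B, b * x * b⁻¹ * x⁻¹ ∈ VG ε {i, j, k}) :
    (centralizer (Cl V Y : Set G)).relIndex B ≤ CW.relIndex (Cl V Y) := by
  obtain ⟨T, hT1, -, hT3, hT4, hT5⟩ := h.exists_syl
  have hCY : centralizer (V : Set G) ≤ Y :=
    (le_inf (centralizer_le_normalizer _) (centralizer_le_YG h.ev _)).trans h.NY
  have hBY : B ≤ Y := (hB.trans (o2_le _)).trans hCY
  rw [← inf_relIndex_right]
  refine hML.grp h.kg (h.gdat hB hf hsq hT1 hT3 hT4 hT5) ?_ hCW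
  intro a
  constructor
  · rintro ⟨ha2, ha⟩
    refine ⟨ha, fun x hx => ?_⟩
    rw [← mem_centralizer_iff.1 ha2 x hx, mul_inv_cancel_right, mul_inv_cancel]
    exact one_mem _
  · rintro ⟨ha, ha2⟩
    exact ⟨h.cent (hBY ha) ha2, ha⟩

/-- **(ML) for `Y` on `U / V_Γ`**: `|B : C_B(U)| ≤ |U : C_U(B)|` -/
theorem YDat.off (h : YDat V ε W Y i j k) (hML : ML.Final.MLK.{u, u}) (hB : B ≤ o2 (centralizer (V : Set G)))
    (hf : B ≤ centralizer (UG V ε {i, j} : Set G)) (hsq : ∀ b ∈ B, b ^ 2 ∈ centralizer (Cl V Y : Set G)) :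
    (centralizer (Cl V Y : Set G)).relIndex B ≤ (centralizer (B : Set G)).relIndex (Cl V Y) := by
  have hWc : ∀ a ∈ Cl V Y, ∀ b ∈ Cl V Y, a * b = b * a := fun a ha b hb => h.Wc a (h.UW ha) b (h.UW hb)
  obtain ⟨CW, hCW⟩ := exists_cm hWc ((VG_le h.ev {i, j, k}).trans (le_Cl V Y)) B
  refine (h.offS hML hB hf hsq hCW).trans ?_
  rw [← inf_relIndex_right (centralizer (B : Set G))]
  refine relIndex_le_of_le_left ?_ index_ne_zero_of_finite
  rintro x ⟨hx1, hx2⟩
  refine (hCW x).2 ⟨hx2, fun a ha => ?_⟩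
  rw [mem_centralizer_iff.1 hx1 a ha, mul_inv_cancel_right, mul_inv_cancel]
  exact one_mem _

/-- the index argument: a minimal best offender `A` on `W` which is not an over-offender on `U ≤ W`, moves `U` -/
theorem Best.split {U : Subgroup G} (hUW : U ≤ W) (hA : Best W A) (hm : ¬ A ≤ centralizer (U : Set G))
    (key : (centralizer (U : Set G)).relIndex A ≤ (centralizer (A : Set G)).relIndex U) :
    W ≤ U ⊔ (W ⊓ centralizer (A : Set G)) ∧ A ⊓ centralizer (U : Set G) ≤ centralizer (W : Set G) := by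
  set B : Subgroup G := A ⊓ centralizer (U : Set G) with hBdef
  have hBA : B ≤ A := inf_le_left
  have key' : B.relIndex A ≤ (centralizer (A : Set G)).relIndex U := by
    rw [hBdef, inf_comm, inf_relIndex_right]
    exact key
  have hUB : U ≤ W ⊓ centralizer (B : Set G) := by
    refine le_inf hUW fun u hu => mem_centralizer_iff.2 fun b hb => ?_
    exact (mem_centralizer_iff.1 hb.2 u hu).symm
  have hlt : B < A := by
    refine lt_of_le_of_ne hBA fun he => hm ?_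
    rw [← he]
    exact inf_le_right
  have hWB : A ⊓ centralizer (W : Set G) ≤ B := inf_le_inf_left _ (centralizer_le hUW)
  have heq : A ⊓ centralizer (W : Set G) = B := by
    rcases hWB.eq_or_lt with h1 | h1
    · exact h1
    · exfalso
      have h2 := hA.min B h1 hlt
      have h3 := relIndex_le_of_le_right (H := centralizer (A : Set G)) hUB index_ne_zero_of_finite
      omega
  have h3 : B ≤ centralizer (W : Set G) := by
    rw [← heq]
    exact inf_le_right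
  refine ⟨?_, h3⟩
  set S := W ⊓ centralizer (A : Set G) with hS
  have e1 : S.relIndex W = (centralizer (A : Set G)).relIndex W := by
    rw [hS, inf_comm, inf_relIndex_right]
  have e2 : S.relIndex U = (centralizer (A : Set G)).relIndex U := by
    rw [← inf_relIndex_right S, ← inf_relIndex_right (centralizer (A : Set G)), hS]
    congr 1
    rw [inf_assoc, inf_comm, inf_assoc, inf_eq_left.2 hUW]
  have e3 : (centralizer (W : Set G)).relIndex A = B.relIndex A := by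
    rw [← heq, inf_comm, inf_relIndex_right]
  have e4 := hA.off
  have e5 : S.relIndex U ≤ S.relIndex (U ⊔ S) :=
    relIndex_le_of_le_right le_sup_left index_ne_zero_of_finite
  have e6 : S.relIndex (U ⊔ S) * (U ⊔ S).relIndex W = S.relIndex W :=
    relIndex_mul_relIndex _ _ _ le_sup_right (sup_le hUW inf_le_left)
  have e7 : 0 < S.relIndex (U ⊔ S) := Nat.pos_of_ne_zero index_ne_zero_of_finite
  have e8 : (U ⊔ S).relIndex W ≤ 1 := by
    by_contra hcon
    have h5 : S.relIndex (U ⊔ S) * 2 ≤ S.relIndex (U ⊔ S) * (U ⊔ S).relIndex W :=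
      Nat.mul_le_mul_left _ (by omega)
    omega
  have e9 : (U ⊔ S).relIndex W ≠ 0 := index_ne_zero_of_finite
  exact relIndex_eq_one.1 (by omega)

/-- ... and `A` is exact on `W` -/
theorem Best.exact {U : Subgroup G} (hUW : U ≤ W) (hA : Best W A) (hm : ¬ A ≤ centralizer (U : Set G))
    (key : (centralizer (U : Set G)).relIndex A ≤ (centralizer (A : Set G)).relIndex U) :
    (centralizer (W : Set G)).relIndex A = (centralizer (A : Set G)).relIndex W := by
  have h1 := (hA.split hUW hm key).2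
  have h2 : (centralizer (W : Set G)).relIndex A = (centralizer (U : Set G)).relIndex A := by
    have h5 : centralizer (W : Set G) ⊓ A = centralizer (U : Set G) ⊓ A := by
      refine le_antisymm (inf_le_inf_right _ (centralizer_le hUW)) ?_
      rw [inf_comm]
      exact le_inf h1 inf_le_left
    rw [← inf_relIndex_right (centralizer (W : Set G)), ← inf_relIndex_right (centralizer (U : Set G)), h5]
  have h3 := relIndex_le_of_le_right (H := centralizer (A : Set G)) hUW index_ne_zero_of_finite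
  have h4 := hA.off
  omega

/-- if `W = U C_W(A)`, `A` normalises `U`, then `[W, A] ≤ U` -/
theorem comm_le_of_split {U : Subgroup G} (hWc : ∀ a ∈ W, ∀ b ∈ W, a * b = b * a) (hUW : U ≤ W)
    (hAU : A ≤ normalizer (U : Set G)) (h4 : W ≤ U ⊔ (W ⊓ centralizer (A : Set G))) :
    ∀ a ∈ A, ∀ w ∈ W, a * w * a⁻¹ * w⁻¹ ∈ U := by
  obtain ⟨C, hC⟩ := exists_cm hWc hUW A
  intro a ha w hw
  have h5 : U ⊔ (W ⊓ centralizer (A : Set G)) ≤ C := by
    refine sup_le ?_ ?_
    · intro u hu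
      refine (hC u).2 ⟨hUW hu, fun b hb => ?_⟩
      exact mul_mem ((mem_normalizer_iff.1 (hAU hb) u).1 hu) (inv_mem hu)
    · rintro u ⟨hu, hu2⟩
      refine (hC u).2 ⟨hu, fun b hb => ?_⟩
      rw [mem_centralizer_iff.1 hu2 b hb, mul_inv_cancel_right, mul_inv_cancel]
      exact one_mem _
  exact ((hC w).1 (h5 (h4 hw))).2 a ha

/-- **THEOREM R1, step (2), relative form** -/
theorem YDat.two (h : YDat V ε W Y i j k) (hML : ML.Final.MLK.{u, u}) (hA : A ≤ o2 (centralizer (V : Set G)))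
    (hB : Best W A) (hf : A ≤ centralizer (UG V ε {i, j} : Set G)) (hm : ¬ A ≤ centralizer (Cl V Y : Set G)) :
    (∀ a ∈ A, ∀ w ∈ W, a * w * a⁻¹ * w⁻¹ ∈ Cl V Y) ∧ W ≤ Cl V Y ⊔ (W ⊓ centralizer (A : Set G)) ∧
      A ⊓ centralizer (Cl V Y : Set G) ≤ centralizer (W : Set G) := by
  have hCY : centralizer (V : Set G) ≤ Y :=
    (le_inf (centralizer_le_normalizer _) (centralizer_le_YG h.ev _)).trans h.NY
  have hAY : A ≤ Y := (hA.trans (o2_le _)).trans hCY
  obtain ⟨h4, h3⟩ := hB.split h.UW hm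
    (h.off hML hA hf fun a ha => centralizer_le h.UW (hB.el.sq a ha))
  exact ⟨comm_le_of_split h.Wc h.UW (hAY.trans (le_normalizer_Cl _ _)) h4, h4, h3⟩

/-- ... and `A` is exact on `W` -/
theorem YDat.exact (h : YDat V ε W Y i j k) (hML : ML.Final.MLK.{u, u}) (hA : A ≤ o2 (centralizer (V : Set G)))
    (hB : Best W A) (hf : A ≤ centralizer (UG V ε {i, j} : Set G)) (hm : ¬ A ≤ centralizer (Cl V Y : Set G)) :
    (centralizer (W : Set G)).relIndex A = (centralizer (A : Set G)).relIndex W :=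
  hB.exact h.UW hm (h.off hML hA hf fun a ha => centralizer_le h.UW (hB.el.sq a ha))

end facts

end Cfsg.Agent.Omega.NO3S.SN.R1

end

section


/-!
# `r = 1` at every level (helper763 #23689; helper430 #22327 (3), (5); helper358 #22753 (1)-(4)): the frame

`V` a line on `z = z_0`, `W = ⟨V^M⟩`, `Q k` the conjugates of `O₂(M)` (`k` a letter).  Only the groups
`X_ij = C_G(V_ij)` occur (relative form: nothing is said about `C_G(z)`).

* `Fr V W ε Q` : the frame;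
* `Sh W P b` : `b` normalises `P` and `[κ, u]^b = [κ^b, u]` for all `κ ∈ P`, `u ∈ W`;
* `Fr.sh` : the conjugates of `A` have this property for `P = Q k` if `[W, A]` is centralised by `Q k`.
-/

set_option autoImplicit false
set_option linter.unusedSectionVars false

namespace Cfsg.Agent.Omega.NO3S.SN.ROne

open Subgroup Cfsg Cfsg.Agent.ZN Cfsg.Agent.Omega.S5.Def Cfsg.Agent.Omega.NO3S.SN.R1
open Cfsg.Agent.MinSimple.VModule

universe u

variable {G : Type u} [Group G]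

/-- the frame -/
structure Fr {n : ℕ} [NeZero n] (V W : Subgroup G) (ε : (Fin n → ZMod 2) → G) (Q : Fin n → Subgroup G) : Prop where
  n5 : 5 ≤ n
  ev : EvenSet n V (normalizer (V : Set G)) ε
  VW : V ≤ W
  Wc : ∀ a ∈ W, ∀ b ∈ W, a * b = b * a
  Ws : ∀ a ∈ W, a * a = 1
  WL : ∀ g ∈ normalizer (V : Set G), g * zz ε 0 * g⁻¹ = zz ε 0 → g ∈ normalizer (W : Set G)
  WX : ∀ i j : Fin n, i ≠ j → i ≠ 0 → j ≠ 0 → YG ε {i, j} ≤ normalizer (W : Set G)
  /-- fusion of the heavy vectors in `V` -/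
  fus : ∀ (i : Fin n) (g : G), g * zz ε i * g⁻¹ ∈ V → ∃ j, g * zz ε i * g⁻¹ = zz ε j
  /-- (B2) -/
  syl : ∀ i j : Fin n, i ≠ j → i ≠ 0 → j ≠ 0 → ∃ T : Subgroup G, T ≤ YG ε {i, j} ∧ T ≤ normalizer (V : Set G) ∧
    IsPGroup 2 T ∧ ¬ 2 ∣ T.relIndex (YG ε {i, j})
  kg : ∀ i j : Fin n, i ≠ j → i ≠ 0 → j ≠ 0 → IsKGroup (YG ε {i, j})
  Q2 : ∀ k, IsPGroup 2 (Q k)
  QV : ∀ k, Q k ≤ centralizer (V : Set G)
  QX : ∀ i j k : Fin n, i ≠ j → k ≠ i → k ≠ j → YG ε {i, j} ≤ normalizer (Q k : Set G)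
  QL : ∀ (g : G) (σ : Equiv.Perm (Fin n)), Acts ε g σ → ∀ k, ∀ q ∈ Q k, g * q * g⁻¹ ∈ Q (σ k)
  /-- `C_W(T) = V` for `T ∈ Syl₂(C_G(V))` -/
  cV : ∀ T : Subgroup G, T ≤ centralizer (V : Set G) → IsPGroup 2 T → ¬ 2 ∣ T.relIndex (centralizer (V : Set G)) →
    ∀ w ∈ W, (∀ t ∈ T, t * w * t⁻¹ = w) → w ∈ V

/-- `b` normalises `P` and `[κ, u]^b = [κ^b, u]` -/
def Sh (W P : Subgroup G) (b : G) : Prop :=
  b ∈ normalizer (P : Set G) ∧ ∀ κ ∈ P, ∀ u ∈ W,
    b * (κ * u * κ⁻¹ * u⁻¹) * b⁻¹ = (b * κ * b⁻¹) * u * (b * κ * b⁻¹)⁻¹ * u⁻¹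

theorem Sh.one (W P : Subgroup G) : Sh W P 1 := ⟨one_mem _, fun κ _ u _ => by group⟩

theorem Sh.mul {W P : Subgroup G} {b c : G} (hb : Sh W P b) (hc : Sh W P c) : Sh W P (b * c) := by
  refine ⟨mul_mem hb.1 hc.1, fun κ hκ u hu => ?_⟩
  have h1 := hc.2 κ hκ u hu
  have h2 := hb.2 _ ((mem_normalizer_iff.1 hc.1 κ).1 hκ) u hu
  calc b * c * (κ * u * κ⁻¹ * u⁻¹) * (b * c)⁻¹ = b * (c * (κ * u * κ⁻¹ * u⁻¹) * c⁻¹) * b⁻¹ := by group
    _ = _ := by rw [h1, h2]; group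

theorem Sh.inv {W P : Subgroup G} {b : G} (hb : Sh W P b) : Sh W P b⁻¹ := by
  refine ⟨inv_mem hb.1, fun κ hκ u hu => ?_⟩
  have h0 := (mem_normalizer_iff.1 (inv_mem hb.1) κ).1 hκ
  have h1 := hb.2 _ h0 u hu
  have h2 : b * (b⁻¹ * κ * b⁻¹⁻¹) * b⁻¹ = κ := by group
  rw [h2] at h1
  rw [← h1]
  group

/-- `Sh` is preserved by conjugation -/
theorem Sh.conj {W P P' : Subgroup G} {b g : G} (hb : Sh W P b) (hW : g ∈ normalizer (W : Set G))
    (hP : ∀ x, x ∈ P ↔ g * x * g⁻¹ ∈ P') : Sh W P' (g * b * g⁻¹) := by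
  have hP' : ∀ x, x ∈ P' ↔ g⁻¹ * x * g ∈ P := by
    intro x
    rw [hP]
    have e : g * (g⁻¹ * x * g) * g⁻¹ = x := by group
    rw [e]
  constructor
  · rw [mem_normalizer_iff]
    intro x
    rw [hP', hP', mem_normalizer_iff.1 hb.1 (g⁻¹ * x * g)]
    have e : g⁻¹ * (g * b * g⁻¹ * x * (g * b * g⁻¹)⁻¹) * g = b * (g⁻¹ * x * g) * b⁻¹ := by group
    rw [e]
  · intro κ hκ u hu
    have h1 := (hP' κ).1 hκ
    have h2 : g⁻¹ * u * g ∈ W := by
      have := (mem_normalizer_iff.1 (inv_mem hW) u).1 hu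
      rwa [inv_inv] at this
    have h3 := hb.2 _ h1 _ h2
    calc g * b * g⁻¹ * (κ * u * κ⁻¹ * u⁻¹) * (g * b * g⁻¹)⁻¹ =
        g * (b * ((g⁻¹ * κ * g) * (g⁻¹ * u * g) * (g⁻¹ * κ * g)⁻¹ * (g⁻¹ * u * g)⁻¹) * b⁻¹) * g⁻¹ := by group
      _ = _ := by rw [h3]; group

section frame

variable {n : ℕ} [NeZero n] {V W A : Subgroup G} {ε : (Fin n → ZMod 2) → G} {Q : Fin n → Subgroup G}

theorem Fr.n3 (h : Fr V W ε Q) : 3 ≤ n := le_trans (by norm_num) h.n5

omit [NeZero n] in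
/-- an element acting as a permutation normalises `V` (finite case not needed) -/
theorem acts_mem_normalizer {L : Subgroup G} (ev : EvenSet n V L ε) {g : G} {σ : Equiv.Perm (Fin n)}
    (hg : Acts ε g σ) : g ∈ normalizer (V : Set G) := by
  rw [mem_normalizer_iff]
  intro x
  constructor
  · intro hx
    obtain ⟨y, rfl⟩ := ev.surj x hx
    rw [hg y]
    exact ev.mem _
  · intro hx
    obtain ⟨y, hy⟩ := ev.surj _ hx
    have h1 := hg.inv y
    have e : x = g⁻¹ * (g * x * g⁻¹) * g⁻¹⁻¹ := by group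
    rw [e, ← hy, h1]
    exact ev.mem _

/-- three letters -/
theorem Fr.exists_letter (h : Fr V W ε Q) (a b c : Fin n) : ∃ k : Fin n, k ≠ 0 ∧ k ≠ a ∧ k ≠ b ∧ k ≠ c := by
  have h1 : ({0, a, b, c} : Finset (Fin n)).card < (Finset.univ : Finset (Fin n)).card := by
    rw [Finset.card_univ, Fintype.card_fin]
    exact lt_of_le_of_lt Finset.card_le_four (by have := h.n5; omega)
  obtain ⟨k, -, hk⟩ := Finset.exists_mem_notMem_of_card_lt_card h1
  simp only [Finset.mem_insert, Finset.mem_singleton, not_or] at hk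
  exact ⟨k, hk.1, hk.2.1, hk.2.2.1, hk.2.2.2⟩

theorem Fr.cent_Q (h : Fr V W ε Q) (k : Fin n) : centralizer (V : Set G) ≤ normalizer (Q k : Set G) := by
  obtain ⟨i, -, hi, -, -⟩ := h.exists_letter k k k
  obtain ⟨j, -, hj, hji, -⟩ := h.exists_letter k i i
  exact (centralizer_le_YG h.ev {i, j}).trans (h.QX i j k hji.symm hi.symm hj.symm)

theorem Fr.cent_W (h : Fr V W ε Q) : centralizer (V : Set G) ≤ normalizer (W : Set G) := by
  intro g hg
  refine h.WL g (centralizer_le_normalizer _ hg) ?_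
  have h1 := mem_centralizer_iff.1 hg _ (h.ev.mem (Pi.single 0 1))
  change g * ε (Pi.single 0 1) * g⁻¹ = ε (Pi.single 0 1)
  rw [← h1, mul_inv_cancel_right]

theorem Fr.Q_le_o2 (h : Fr V W ε Q) (k : Fin n) : Q k ≤ o2 (centralizer (V : Set G)) :=
  le_o2 (h.QV k) (h.Q2 k) (h.cent_Q k)

/-- `Q k` centralises `U_ij`, `k ∉ {i, j}` -/
theorem Fr.Q_cent (h : Fr V W ε Q) {i j k : Fin n} (hij : i ≠ j) (hki : k ≠ i) (hkj : k ≠ j) :
    Q k ≤ centralizer (UG V ε {i, j} : Set G) := by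
  intro q hq
  rw [mem_centralizer_iff]
  intro u hu
  refine closure_induction (p := fun x _ => x * q = q * x) ?_ ?_ ?_ ?_ hu
  · rintro _ ⟨y, hy, v, hv, rfl⟩
    have h1 : y⁻¹ * q * y ∈ Q k := by
      have := (mem_normalizer_iff.1 (inv_mem (h.QX i j k hij hki hkj hy)) q).1 hq
      rwa [inv_inv] at this
    have h2 := mem_centralizer_iff.1 (h.QV k h1) v hv
    calc y * v * y⁻¹ * q = y * (v * (y⁻¹ * q * y)) * y⁻¹ := by group
      _ = y * ((y⁻¹ * q * y) * v) * y⁻¹ := by rw [h2]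
      _ = q * (y * v * y⁻¹) := by group
  · rw [one_mul, mul_one]
  · intro x y _ _ h1 h2
    rw [mul_assoc, h2, ← mul_assoc, h1, mul_assoc]
  · intro x _ h1
    have h2 : Commute x q := h1
    exact h2.inv_left

theorem Fr.UG_le (h : Fr V W ε Q) {i j : Fin n} (hij : i ≠ j) (hi : i ≠ 0) (hj : j ≠ 0) : UG V ε {i, j} ≤ W :=
  Cl_le h.VW (h.WX i j hij hi hj)

/-- the conjugates of `A` by `X_ij` have the property `Sh` for `Q k`, if `[W, A]` is centralised by `Q k` -/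
theorem Fr.sh (h : Fr V W ε Q) (hA : A ≤ centralizer (V : Set G)) {i j k : Fin n} (hij : i ≠ j) (hi : i ≠ 0)
    (hj : j ≠ 0) (hki : k ≠ i) (hkj : k ≠ j) (hc : ∀ a ∈ A, ∀ u ∈ W, ∀ κ ∈ Q k, κ * (a * u * a⁻¹ * u⁻¹) =
      (a * u * a⁻¹ * u⁻¹) * κ) {x a : G} (hx : x ∈ YG ε {i, j}) (ha : a ∈ A) : Sh W (Q k) (x * a * x⁻¹) := by
  have haQ := h.cent_Q k (hA ha)
  have haW := h.cent_W (hA ha)
  have hxQ := h.QX i j k hij hki hkj hx
  have hxW := h.WX i j hij hi hj hx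
  have h1 : Sh W (Q k) a := by
    refine ⟨haQ, fun κ hκ u hu => ?_⟩
    obtain ⟨m, hm⟩ : ∃ m, m = a * u * a⁻¹ * u⁻¹ := ⟨_, rfl⟩
    have hmW : m ∈ W := by
      rw [hm]
      exact mul_mem ((mem_normalizer_iff.1 haW u).1 hu) (inv_mem hu)
    have hau : a * u * a⁻¹ = m * u := by rw [hm]; group
    obtain ⟨κ', hκ'⟩ : ∃ κ', κ' = a * κ * a⁻¹ := ⟨_, rfl⟩
    have hκ'Q : κ' ∈ Q k := by
      rw [hκ']
      exact (mem_normalizer_iff.1 haQ κ).1 hκ
    have hκm : κ' * m = m * κ' := by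
      rw [hm]
      exact hc a ha u hu κ' hκ'Q
    have hcW : κ' * u * κ'⁻¹ * u⁻¹ ∈ W :=
      mul_mem ((mem_normalizer_iff.1 (h.cent_W (h.QV k hκ'Q)) u).1 hu) (inv_mem hu)
    calc a * (κ * u * κ⁻¹ * u⁻¹) * a⁻¹
        = (a * κ * a⁻¹) * (a * u * a⁻¹) * (a * κ * a⁻¹)⁻¹ * (a * u * a⁻¹)⁻¹ := by group
      _ = κ' * (m * u) * κ'⁻¹ * (m * u)⁻¹ := by rw [hau, hκ']
      _ = (κ' * m) * u * κ'⁻¹ * u⁻¹ * m⁻¹ := by group
      _ = m * (κ' * u * κ'⁻¹ * u⁻¹) * m⁻¹ := by rw [hκm]; group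
      _ = (κ' * u * κ'⁻¹ * u⁻¹) * m * m⁻¹ := by rw [h.Wc m hmW _ hcW]
      _ = κ' * u * κ'⁻¹ * u⁻¹ := by group
      _ = _ := by rw [hκ']
  exact h1.conj hxW fun y => mem_normalizer_iff.1 hxQ y

end frame

end Cfsg.Agent.Omega.NO3S.SN.ROne

end

section


/-!
# `r = 1`: (M1) in the relative frame (helper430 #22327 (3))

`A ≤ Q p`, `[W, A]` centralised by `Q k`, `k ∉ {0, p, q}`; `x ∈ X_pq`, `a ∈ A`, `x⁻¹ a x ∈ N(V)`: then `x⁻¹ a x ∈ C(V)`.
-/

set_option autoImplicit false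
set_option linter.unusedSectionVars false

namespace Cfsg.Agent.Omega.NO3S.SN.ROne

open Subgroup Cfsg Cfsg.Agent.ZN Cfsg.Agent.Omega.S5.Def Cfsg.Agent.Omega.NO3S.SN.R1
open Cfsg.Agent.MinSimple.VModule

universe u

variable {G : Type u} [Group G] {n : ℕ} [NeZero n] {V W A : Subgroup G} {ε : (Fin n → ZMod 2) → G}
  {Q : Fin n → Subgroup G}

omit [NeZero n] in
/-- `σ` fixing all letters outside `{a, b}` -/
theorem perm_eq_of_fix {σ : Equiv.Perm (Fin n)} {a b : Fin n} (hab : a ≠ b)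
    (h : ∀ c, c ≠ a → c ≠ b → σ c = c) : σ = 1 ∨ σ = Equiv.swap a b := by
  by_cases ha : σ a = a
  · left
    ext c
    by_cases hca : c = a
    · rw [hca, ha]; rfl
    · by_cases hcb : c = b
      · subst hcb
        have h1 : σ c = c := by
          by_contra hne
          have h2 : σ c ≠ a := fun h3 => hca (σ.injective (h3.trans ha.symm))
          exact hne (σ.injective (h (σ c) h2 hne))
        rw [h1]; rfl
      · rw [h c hca hcb]; rfl
  · right
    have h1 : σ a = b := by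
      by_contra hne
      exact ha (σ.injective (h (σ a) ha hne))
    have h2 : σ b = a := by
      by_contra hne
      have h3 : σ b ≠ b := fun h4 => hab (σ.injective (h1.trans h4.symm))
      exact h3 (σ.injective (h (σ b) hne h3))
    ext c
    by_cases hca : c = a
    · rw [hca, h1, Equiv.swap_apply_left]
    · by_cases hcb : c = b
      · rw [hcb, h2, Equiv.swap_apply_right]
      · rw [h c hca hcb, Equiv.swap_apply_of_ne_of_ne hca hcb]

omit [NeZero n] in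
/-- an element of `X_ab` normalising `V` -/
theorem one_or_swap (hn : 3 ≤ n) (ev : EvenSet n V (normalizer (V : Set G)) ε) {a b : Fin n} (hab : a ≠ b) {y : G}
    (hy : y ∈ YG ε {a, b}) (hN : y ∈ normalizer (V : Set G)) :
    y ∈ centralizer (V : Set G) ∨ Acts ε y (Equiv.swap a b) := by
  obtain ⟨σ, hσ⟩ := ev.perm y hN
  have h1 : ∀ c, c ≠ a → c ≠ b → σ c = c := fun c hca hcb =>
    acts_fix ev hn hσ hy (by simp [hca, hcb])
  rcases perm_eq_of_fix hab h1 with h2 | h2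
  · left
    rw [h2] at hσ
    exact ev.acts_one_iff.mp hσ
  · right
    rwa [h2] at hσ

omit [NeZero n] in
theorem single_add_cst {a b : Fin n} (hab : a ≠ b) :
    Cst ({a, b} : Finset (Fin n)) (Pi.single a 1 + Pi.single b 1 : Fin n → ZMod 2) := by
  intro p hp q hq
  simp only [Finset.mem_insert, Finset.mem_singleton] at hp hq
  rcases hp with rfl | rfl <;> rcases hq with rfl | rfl <;> simp [hab, hab.symm]

omit [NeZero n] in
theorem single_add_cst' {a b i j : Fin n} (hia : i ≠ a) (hib : i ≠ b) (hja : j ≠ a) (hjb : j ≠ b) :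
    Cst ({a, b} : Finset (Fin n)) (Pi.single i 1 + Pi.single j 1 : Fin n → ZMod 2) := by
  refine Cst.add (cst_single ?_) (cst_single ?_) <;> simp [hia, hib, hja, hjb]

/-- the hypothesis on the centralisers of `[W, A]` -/
def Co (W A : Subgroup G) (Q : Fin n → Subgroup G) (p q : Fin n) : Prop :=
  ∀ k : Fin n, k ≠ 0 → k ≠ p → k ≠ q → ∀ a ∈ A, ∀ u ∈ W, ∀ κ ∈ Q k,
    κ * (a * u * a⁻¹ * u⁻¹) = (a * u * a⁻¹ * u⁻¹) * κ

/-- **(M1) for `r = 1`** -/
theorem Fr.m1 (h : Fr V W ε Q) {p q : Fin n} (hp : p ≠ 0) (hq : q ≠ 0) (hpq : p ≠ q) (hA : A ≤ Q p)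
    (hc : Co W A Q p q) {x a : G} (hx : x ∈ YG ε {p, q}) (ha : a ∈ A)
    (hN : x⁻¹ * a * x ∈ normalizer (V : Set G)) : x⁻¹ * a * x ∈ centralizer (V : Set G) := by
  have hn3 := h.n3
  have hAV : A ≤ centralizer (V : Set G) := hA.trans (h.QV p)
  have haY : a ∈ YG ε {p, q} := centralizer_le_YG h.ev _ (hAV ha)
  have hbY : x⁻¹ * a * x ∈ YG ε {p, q} := mul_mem (mul_mem (inv_mem hx) haY) hx
  rcases one_or_swap hn3 h.ev hpq hbY hN with h0 | hs
  · exact h0
  exfalso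
  obtain ⟨b, hb⟩ : ∃ b, b = x⁻¹ * a * x := ⟨_, rfl⟩
  rw [← hb] at hs hbY
  have hab : a = x * b * x⁻¹ := by rw [hb]; group
  -- `b` has the property `Sh` for `Q k`
  have hSh : ∀ k : Fin n, k ≠ 0 → k ≠ p → k ≠ q → Sh W (Q k) b := by
    intro k hk0 hkp hkq
    have h1 := h.sh hAV hpq hp hq hkp hkq (hc k hk0 hkp hkq) (inv_mem hx) ha
    rwa [inv_inv, ← hb] at h1
  obtain ⟨w, hw⟩ : ∃ w, w = x * zz ε p * x⁻¹ := ⟨_, rfl⟩
  have hwW : w ∈ W := by
    rw [hw]
    exact (mem_normalizer_iff.1 (h.WX p q hpq hp hq hx) _).1 (h.VW (h.ev.mem _))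
  -- `[a, w] = z_q z_p`
  have h1 : a * w * a⁻¹ * w⁻¹ = ε (Pi.single p 1 + Pi.single q 1) := by
    have h2 : b * zz ε p * b⁻¹ = zz ε q := by
      have h3 := hs.single p
      rwa [Equiv.swap_apply_left] at h3
    have h3 : a * w * a⁻¹ * w⁻¹ = x * (b * zz ε p * b⁻¹ * (zz ε p)⁻¹) * x⁻¹ := by
      rw [hw, hab]; group
    rw [h3, h2]
    have h4 : zz ε q * (zz ε p)⁻¹ = ε (Pi.single p 1 + Pi.single q 1) := by
      rw [zz, zz, h.ev.inv, h.ev.add, h.ev.comm]
    rw [h4]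
    exact (mem_YG h.ev).1 hx _ (single_add_cst hpq)
  -- `[q_j, w] = z_j z_p`
  have key : ∀ j : Fin n, j ≠ 0 → j ≠ p → j ≠ q →
      ∃ r ∈ centralizer (V : Set G), r * w * r⁻¹ * w⁻¹ = ε (Pi.single p 1 + Pi.single j 1) := by
    intro j hj0 hjp hjq
    -- the 3-cycle `p → q → j → p`
    obtain ⟨g, hg, hσ⟩ := h.ev.full (Equiv.swap p j * Equiv.swap p q)
    set σ : Equiv.Perm (Fin n) := Equiv.swap p j * Equiv.swap p q with hσd
    have e1 : σ p = q := by
      rw [hσd, Equiv.Perm.mul_apply, Equiv.swap_apply_left, Equiv.swap_apply_of_ne_of_ne hpq.symm hjq.symm]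
    have e2 : σ q = j := by
      rw [hσd, Equiv.Perm.mul_apply, Equiv.swap_apply_right, Equiv.swap_apply_left]
    have e3 : σ j = p := by
      rw [hσd, Equiv.Perm.mul_apply, Equiv.swap_apply_of_ne_of_ne hjp hjq, Equiv.swap_apply_right]
    have e0 : σ 0 = 0 := by
      rw [hσd, Equiv.Perm.mul_apply, Equiv.swap_apply_of_ne_of_ne hp.symm hq.symm,
        Equiv.swap_apply_of_ne_of_ne hp.symm hj0.symm]
    have hgW : g ∈ normalizer (W : Set G) := by
      refine h.WL g hg ?_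
      have h5 := hσ.single 0
      rwa [e0] at h5
    have hPP : ∀ y, y ∈ Q j ↔ g * y * g⁻¹ ∈ Q p := by
      intro y
      constructor
      · intro hy
        have h5 := h.QL g σ hσ j y hy
        rwa [e3] at h5
      · intro hy
        have h5 := h.QL g⁻¹ σ⁻¹ hσ.inv p _ hy
        have e4 : σ⁻¹ p = j := by rw [← e3]; exact σ.symm_apply_apply j
        rw [e4] at h5
        have e5 : g⁻¹ * (g * y * g⁻¹) * g⁻¹⁻¹ = y := by group
        rwa [e5] at h5
    have hd := (hSh j hj0 hjp hjq).conj hgW hPP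
    have hdσ : Acts ε (g * b * g⁻¹) (Equiv.swap q j) := by
      have h5 := hσ.conj hs
      have h6 : σ * Equiv.swap p q * σ⁻¹ = Equiv.swap q j := by
        rw [← e1, ← e2, Equiv.swap_apply_apply, e1]
      rwa [h6] at h5
    obtain ⟨d, hdd⟩ : ∃ d, d = g * b * g⁻¹ := ⟨_, rfl⟩
    rw [← hdd] at hd hdσ
    refine ⟨d * a * d⁻¹, h.QV p ((mem_normalizer_iff.1 hd.1 a).1 (hA ha)), ?_⟩
    rw [← hd.2 a (hA ha) w hwW, h1, hdσ]
    congr 1
    funext t
    simp only [Function.comp, Equiv.symm_swap, Pi.add_apply, Pi.single_apply]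
    have e6 : (Equiv.swap q j t = p) = (t = p) := by
      rw [Equiv.swap_apply_eq_iff, Equiv.swap_apply_of_ne_of_ne hpq hjp.symm]
    have e7 : (Equiv.swap q j t = q) = (t = j) := by
      rw [Equiv.swap_apply_eq_iff, Equiv.swap_apply_left]
    simp only [e6, e7]
  obtain ⟨j, hj0, hjp, hjq, -⟩ := h.exists_letter p q q
  obtain ⟨k, hk0, hkp, hkq, hkj⟩ := h.exists_letter p q j
  obtain ⟨r, hr, hr1⟩ := key j hj0 hjp hjq
  obtain ⟨s, hs', hs1⟩ := key k hk0 hkp hkq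
  -- `[r s, w] = z_j z_k`
  have hq1 : (r * s) * w * (r * s)⁻¹ * w⁻¹ = ε (Pi.single k 1 + Pi.single j 1) := by
    have h5 : s * w * s⁻¹ = ε (Pi.single p 1 + Pi.single k 1) * w := by rw [← hs1]; group
    have h6 : r * w * r⁻¹ = ε (Pi.single p 1 + Pi.single j 1) * w := by rw [← hr1]; group
    have h7 := mem_centralizer_iff.mp hr _ (h.ev.mem (Pi.single p 1 + Pi.single k 1))
    calc (r * s) * w * (r * s)⁻¹ * w⁻¹ = r * (s * w * s⁻¹) * r⁻¹ * w⁻¹ := by group
      _ = r * (ε (Pi.single p 1 + Pi.single k 1) * w) * r⁻¹ * w⁻¹ := by rw [h5]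
      _ = (r * ε (Pi.single p 1 + Pi.single k 1)) * w * r⁻¹ * w⁻¹ := by group
      _ = ε (Pi.single p 1 + Pi.single k 1) * (r * w * r⁻¹) * w⁻¹ := by rw [← h7]; group
      _ = ε (Pi.single p 1 + Pi.single k 1) * ε (Pi.single p 1 + Pi.single j 1) := by rw [h6]; group
      _ = ε (Pi.single p 1 + Pi.single k 1 + (Pi.single p 1 + Pi.single j 1)) := (h.ev.add _ _).symm
      _ = _ := by
        congr 1
        have h8 : (Pi.single p 1 + Pi.single k 1 + (Pi.single p 1 + Pi.single j 1) : Fin n → ZMod 2) =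
            (Pi.single p 1 + Pi.single p 1) + (Pi.single k 1 + Pi.single j 1) := by abel
        rw [h8, add_self, zero_add]
  have hpp : (x⁻¹ * (r * s) * x) * zz ε p * (x⁻¹ * (r * s) * x)⁻¹ =
      ε (Pi.single k 1 + Pi.single j 1 + Pi.single p 1) := by
    have h5 : (x⁻¹ * (r * s) * x) * zz ε p * (x⁻¹ * (r * s) * x)⁻¹ =
        x⁻¹ * (((r * s) * w * (r * s)⁻¹ * w⁻¹) * w) * x⁻¹⁻¹ := by rw [hw]; group
    rw [h5, hq1]
    have h6 : x⁻¹ * ε (Pi.single k 1 + Pi.single j 1) * x⁻¹⁻¹ = ε (Pi.single k 1 + Pi.single j 1) :=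
      (mem_YG h.ev).1 (inv_mem hx) _ (single_add_cst' hkp hkq hjp hjq)
    calc x⁻¹ * (ε (Pi.single k 1 + Pi.single j 1) * w) * x⁻¹⁻¹
        = (x⁻¹ * ε (Pi.single k 1 + Pi.single j 1) * x⁻¹⁻¹) * (x⁻¹ * w * x⁻¹⁻¹) := by group
      _ = ε (Pi.single k 1 + Pi.single j 1) * zz ε p := by rw [h6, hw]; group
      _ = _ := by rw [zz, ← h.ev.add]
  obtain ⟨i, hi⟩ := h.fus p (x⁻¹ * (r * s) * x) (by rw [hpp]; exact h.ev.mem _)
  rw [hpp, zz] at hi
  rcases h.ev.eq_iff.mp hi with h5 | h5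
  · have h6 := congrFun h5 k
    have h7 := congrFun h5 j
    simp only [Pi.add_apply, Pi.single_apply] at h6 h7
    simp [hkj, hkj.symm, hkp, hjp] at h6 h7
    exact hkj (h6.trans h7.symm)
  · have h6 := congrFun h5 0
    have h7 := congrFun h5 q
    simp only [Pi.add_apply, Pi.single_apply, Pi.one_apply] at h6 h7
    simp only [hj0.symm, hk0.symm, hp.symm, hjq.symm, hkq.symm, hpq.symm, if_false, add_zero] at h6 h7
    have h8 : (0 : Fin n) = i := by
      by_contra hne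
      rw [if_neg hne, zero_add] at h6
      exact zero_ne_one h6
    have h9 : q = i := by
      by_contra hne
      rw [if_neg hne, zero_add] at h7
      exact zero_ne_one h7
    exact hq (h9.trans h8.symm)

end Cfsg.Agent.Omega.NO3S.SN.ROne

end

section


/-!
# LightL at levels, `r = 1` (helper763 #23689): the group form of `SwR`, `AtR`

`Y` acts on the elementary abelian `W` by conjugation and centralises `R ≤ W`.

* `GSw Y W R T O θ` : the hypotheses of the reduction (69's `SwR`) for the image of `Y` in `Aut(W)`;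
* `GAt Y W R O A θ` : `A ≤ O` acts on `W` as a minimal best offender, `|A : C_A(W)| ≥ 4`, and `A` centralises the
  conjugates of `θ` which it normalises modulo `R`.
-/

set_option autoImplicit false

namespace Cfsg.Agent.Omega.NO3S.SN.ROne

open Subgroup Cfsg

universe u

variable {G : Type u} [Group G]

/-- **The group form of `SwR`.** -/
structure GSw (Y W R T O : Subgroup G) (θ : G) : Prop where
  kY : IsKGroup Y
  WY : Y ≤ normalizer (W : Set G)
  Wc : ∀ a ∈ W, ∀ b ∈ W, a * b = b * a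
  Ws : ∀ a ∈ W, a * a = 1
  RW : R ≤ W
  RY : Y ≤ centralizer (R : Set G)
  faith : ∀ y ∈ Y, (∀ w ∈ W, y * w * y⁻¹ * w⁻¹ ∈ R) → y ∈ centralizer (W : Set G)
  TY : T ≤ Y
  T2 : IsPGroup 2 T
  syl : ¬ 2 ∣ T.relIndex Y
  fixT : ∀ w ∈ W, (∀ t ∈ T, t * w * t⁻¹ = w) → w ∈ R
  θW : θ ∈ W
  θR : θ ∉ R
  Tθ : ∀ t ∈ T, t * θ * t⁻¹ * θ⁻¹ ∈ R
  gen : ∀ U : Subgroup G, R ≤ U → (∀ y ∈ Y, y * θ * y⁻¹ ∈ U) → W ≤ U
  OY : O ≤ Y
  O2 : IsPGroup 2 O
  Oθ : ∀ o ∈ O, o * θ * o⁻¹ * θ⁻¹ ∈ R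
  On : ∀ y ∈ Y, y * θ * y⁻¹ * θ⁻¹ ∈ R → y ∈ normalizer (O : Set G)

/-- **`A` is a minimal best offender of order at least 4 in `O`**, type (c) absent. -/
structure GAt (Y W R O A : Subgroup G) (θ : G) : Prop where
  AO : A ≤ O
  sq : ∀ a ∈ A, a * a ∈ centralizer (W : Set G)
  quad : ∀ a ∈ A, ∀ b ∈ A, ∀ w ∈ W, a * (b * w * b⁻¹ * w⁻¹) * a⁻¹ = b * w * b⁻¹ * w⁻¹
  four : 4 ≤ (centralizer (W : Set G)).relIndex A
  off : (centralizer (A : Set G)).relIndex W ≤ (centralizer (W : Set G)).relIndex A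
  min : ∀ B : Subgroup G, A ⊓ centralizer (W : Set G) < B → B < A →
    (centralizer (W : Set G)).relIndex B < (centralizer (B : Set G)).relIndex W
  m1 : ∀ a ∈ A, ∀ y ∈ Y, a * (y * θ * y⁻¹) * a⁻¹ * (y * θ * y⁻¹)⁻¹ ∈ R →
    a * (y * θ * y⁻¹) * a⁻¹ = y * θ * y⁻¹

end Cfsg.Agent.Omega.NO3S.SN.ROne

end

section


/-!
# `r = 1`: the frame gives `GSw` (helper763 #23689 (1))

`Y = X_pq = C_G(V_pq)` on `W_pq = ⟨V^Y⟩`, `R = V_pq`, `θ = z_p`, `O = O₂(C_G(V))`.
-/

set_option autoImplicit false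
set_option linter.unusedSectionVars false

namespace Cfsg.Agent.Omega.NO3S.SN.ROne

open Subgroup Cfsg Cfsg.Agent.ZN Cfsg.Agent.Omega.S5.Def Cfsg.Agent.Omega.NO3S.SN.R1
open Cfsg.Agent.MinSimple.VModule

universe u

variable {G : Type u} [Group G]

/-- a Sylow subgroup meets a normal subgroup in a Sylow subgroup -/
theorem not_dvd_of_normal [Finite G] {N X T : Subgroup G} (hT : IsPGroup 2 T)
    (hs : ¬ 2 ∣ T.relIndex N) (hX : X ≤ N) (hn : N ≤ normalizer (X : Set G)) : ¬ 2 ∣ T.relIndex X := by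
  have : Fact (Nat.Prime 2) := ⟨Nat.prime_two⟩
  have hT' : IsPGroup 2 (T.subgroupOf N) := hT.comap_of_injective _ N.subtype_injective
  have : (X.subgroupOf N).Normal := normal_subgroupOf_of_le_normalizer hn
  have h1 := Lib.SylowNormalInf.not_dvd_relIndex (hT'.toSylow hs) (X.subgroupOf N)
  have h2 : (((hT'.toSylow hs : Sylow 2 N) : Subgroup N)).relIndex (X.subgroupOf N) = T.relIndex X := by
    change (T.subgroupOf N).relIndex (X.subgroupOf N) = T.relIndex X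
    rw [Subgroup.relIndex_subgroupOf hX]
  rwa [h2] at h1

theorem not_dvd_of_le [Finite G] {T B Y : Subgroup G} (hT : T ≤ B) (hB : B ≤ Y) (hs : ¬ 2 ∣ T.relIndex Y) :
    ¬ 2 ∣ T.relIndex B := fun h => hs (h.trans (Dvd.intro _ (relIndex_mul_relIndex _ _ _ hT hB)))

variable {n : ℕ} [NeZero n] {V W A : Subgroup G} {ε : (Fin n → ZMod 2) → G} {Q : Fin n → Subgroup G}

omit [NeZero n] in
/-- `V = V_pq ∪ V_pq z_p` -/
theorem mem_VG_or (ev : EvenSet n V (normalizer (V : Set G)) ε) {p q : Fin n} (hpq : p ≠ q) {v : G} (hv : v ∈ V) :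
    v ∈ VG ε {p, q} ∨ v * zz ε p ∈ VG ε {p, q} := by
  obtain ⟨x, rfl⟩ := ev.surj v hv
  by_cases h1 : x p = x q
  · left
    rw [mem_VG_iff ev]
    intro i hi j hj
    simp only [Finset.mem_insert, Finset.mem_singleton] at hi hj
    rcases hi with rfl | rfl <;> rcases hj with rfl | rfl <;> simp [h1]
  · right
    have h2 : x p + 1 = x q := by
      have h3 : ∀ a b : ZMod 2, a ≠ b → a + 1 = b := by decide
      exact h3 _ _ h1
    rw [zz, ← ev.add, mem_VG_iff ev]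
    intro i hi j hj
    simp only [Finset.mem_insert, Finset.mem_singleton] at hi hj
    rcases hi with rfl | rfl <;> rcases hj with rfl | rfl <;>
      simp [hpq.symm, h2]

omit [NeZero n] in
theorem zz_notMem (ev : EvenSet n V (normalizer (V : Set G)) ε) {p q : Fin n} (hpq : p ≠ q) :
    zz ε p ∉ VG ε {p, q} := by
  rw [zz, mem_VG_iff ev]
  intro h1
  have h2 := h1 p (by simp) q (by simp)
  simp [hpq.symm] at h2

omit [NeZero n] in
/-- an element of `X_pq` with `[y, z_p] ∈ V_pq` normalises `V` -/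
theorem norm_of_zz [Finite G] (ev : EvenSet n V (normalizer (V : Set G)) ε) {p q : Fin n} (hpq : p ≠ q) {y : G}
    (hy : y ∈ YG ε {p, q}) (h1 : y * zz ε p * y⁻¹ * (zz ε p)⁻¹ ∈ VG ε {p, q}) : y ∈ normalizer (V : Set G) := by
  refine mem_normalizer_of_map_le ?_
  rintro _ ⟨v, hv, rfl⟩
  change y * v * y⁻¹ ∈ V
  have hcV : ∀ u ∈ VG ε {p, q}, y * u * y⁻¹ = u := by
    intro u hu
    have h2 := mem_centralizer_iff.1 hy u hu
    rw [← h2, mul_inv_cancel_right]
  have hz : y * zz ε p * y⁻¹ ∈ V := by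
    have h2 := mul_mem (VG_le ev _ h1) (ev.mem (Pi.single p 1))
    change y * zz ε p * y⁻¹ * (zz ε p)⁻¹ * zz ε p ∈ V at h2
    rwa [inv_mul_cancel_right] at h2
  rcases mem_VG_or ev hpq hv with h2 | h2
  · rw [hcV v h2]
    exact hv
  · have h3 := mul_mem (VG_le ev _ h2) (inv_mem hz)
    have h4 : y * v * y⁻¹ = (y * (v * zz ε p) * y⁻¹) * (y * zz ε p * y⁻¹)⁻¹ := by group
    rw [h4, hcV _ h2]
    exact h3

omit [NeZero n] in
/-- a vector of `V` centralised by an element inducing `(p q)` lies in `V_pq` -/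
theorem mem_VG_of_swap (hn : 3 ≤ n) (ev : EvenSet n V (normalizer (V : Set G)) ε) {p q : Fin n} (hpq : p ≠ q) {t v : G}
    (ht : Acts ε t (Equiv.swap p q)) (hv : v ∈ V) (h : t * v * t⁻¹ = v) : v ∈ VG ε {p, q} := by
  obtain ⟨x, rfl⟩ := ev.surj v hv
  rw [ht x] at h
  rw [mem_VG_iff ev]
  have h3 : x p = x q := by
    rcases ev.eq_iff.1 h with h1 | h1
    · have h2 := congrFun h1 p
      simp only [Function.comp, Equiv.symm_swap, Equiv.swap_apply_left] at h2
      exact h2.symm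
    · exfalso
      obtain ⟨c, hc⟩ : ∃ c : Fin n, c ≠ p ∧ c ≠ q := by
        have h2 : ({p, q} : Finset (Fin n)).card < (Finset.univ : Finset (Fin n)).card := by
          rw [Finset.card_univ, Fintype.card_fin]
          exact lt_of_le_of_lt Finset.card_le_two (by omega)
        obtain ⟨k, -, hk⟩ := Finset.exists_mem_notMem_of_card_lt_card h2
        simp only [Finset.mem_insert, Finset.mem_singleton, not_or] at hk
        exact ⟨k, hk⟩
      have h2 := congrFun h1 c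
      simp only [Function.comp, Equiv.symm_swap, Equiv.swap_apply_of_ne_of_ne hc.1 hc.2, Pi.add_apply,
        Pi.one_apply] at h2
      exact one_ne_zero (left_eq_add.1 h2)
  intro i hi j hj
  simp only [Finset.mem_insert, Finset.mem_singleton] at hi hj
  rcases hi with rfl | rfl <;> rcases hj with rfl | rfl <;> simp [h3]

/-- an element of `L ∩ X_pq` inducing `(p q)` -/
theorem Fr.exists_swap (h : Fr V W ε Q) {p q : Fin n} :
    ∃ t ∈ normalizer (V : Set G), t ∈ YG ε {p, q} ∧ Acts ε t (Equiv.swap p q) := by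
  obtain ⟨t, ht, hσ⟩ := h.ev.full (Equiv.swap p q)
  refine ⟨t, ht, mem_YG_of_acts h.ev hσ fun m hm => ?_, hσ⟩
  simp only [Finset.mem_insert, Finset.mem_singleton, not_or] at hm
  exact Equiv.swap_apply_of_ne_of_ne hm.1 hm.2

/-- `C_(W_pq)(T) ≤ V_pq` -/
theorem Fr.fixT [Finite G] (h : Fr V W ε Q) {p q : Fin n} (hp : p ≠ 0) (hq : q ≠ 0) (hpq : p ≠ q) {T : Subgroup G}
    (hTY : T ≤ YG ε {p, q}) (hTN : T ≤ normalizer (V : Set G)) (hT2 : IsPGroup 2 T)
    (hTs : ¬ 2 ∣ T.relIndex (YG ε {p, q})) {w : G} (hw : w ∈ UG V ε {p, q}) (hf : ∀ t ∈ T, t * w * t⁻¹ = w) :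
    w ∈ VG ε {p, q} := by
  have hn3 := h.n3
  have hB : T.relIndex (YG ε {p, q} ⊓ normalizer (V : Set G)) ∣ T.relIndex (YG ε {p, q}) :=
    Dvd.intro _ (relIndex_mul_relIndex _ _ _ (le_inf hTY hTN) inf_le_left)
  have h1 : ¬ 2 ∣ T.relIndex (YG ε {p, q} ⊓ normalizer (V : Set G)) := fun hd => hTs (hd.trans hB)
  have hCB : centralizer (V : Set G) ≤ YG ε {p, q} ⊓ normalizer (V : Set G) :=
    le_inf (centralizer_le_YG h.ev _) (centralizer_le_normalizer _)
  have hBC : YG ε {p, q} ⊓ normalizer (V : Set G) ≤ normalizer (centralizer (V : Set G) : Set G) :=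
    fun g hg => norm_cent hg.2
  have h2 := not_dvd_of_normal hT2 h1 hCB hBC
  have hwV : w ∈ V := by
    refine h.cV (T ⊓ centralizer (V : Set G)) inf_le_right (hT2.to_le inf_le_left) ?_ w
      (h.UG_le hpq hp hq hw) fun t ht => hf t ht.1
    rwa [inf_relIndex_right]
  -- `T` is not contained in `C(V)`
  obtain ⟨t, htN, htY, htσ⟩ := h.exists_swap (p := p) (q := q)
  by_cases hc : T ≤ centralizer (V : Set G)
  · exfalso
    apply h1
    have h3 : (centralizer (V : Set G)).relIndex (YG ε {p, q} ⊓ normalizer (V : Set G)) = 2 := by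
      rw [relIndex, index_eq_two_iff]
      refine ⟨⟨t, htY, htN⟩, fun b => ?_⟩
      have hb : ∀ c : G, c ∈ YG ε {p, q} → c ∈ normalizer (V : Set G) → Acts ε c (Equiv.swap p q) →
          c ∉ centralizer (V : Set G) := by
        intro c _ _ hc1 hc2
        have h4 := h.ev.acts_unique hn3 hc1 (h.ev.acts_one_iff.2 hc2)
        have h5 : Equiv.swap p q p = p := by rw [h4]; rfl
        rw [Equiv.swap_apply_left] at h5
        exact hpq h5.symm
      rcases one_or_swap hn3 h.ev hpq b.2.1 b.2.2 with h4 | h4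
      · right
        refine ⟨h4, ?_⟩
        rw [mem_subgroupOf]
        change (b : G) * t ∉ _
        intro h5
        have h6 : t ∈ centralizer (V : Set G) := (mul_mem_cancel_left h4).1 h5
        exact hb t htY htN htσ h6
      · left
        refine ⟨?_, hb _ b.2.1 b.2.2 h4⟩
        rw [mem_subgroupOf]
        change (b : G) * t ∈ _
        refine h.ev.acts_one_iff.1 ?_
        have h5 := h4.mul htσ
        rwa [Equiv.swap_mul_self] at h5
    have h4 := relIndex_mul_relIndex T (centralizer (V : Set G)) _ hc hCB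
    rw [← h4, h3]
    exact Dvd.intro_left _ rfl
  · rw [SetLike.not_le_iff_exists] at hc
    obtain ⟨s, hs, hsc⟩ := hc
    rcases one_or_swap hn3 h.ev hpq (hTY hs) (hTN hs) with h4 | h4
    · exact absurd h4 hsc
    · exact mem_VG_of_swap hn3 h.ev hpq h4 hwV (hf s hs)

/-- **`GSw`** -/
theorem Fr.gsw [Finite G] (h : Fr V W ε Q) {p q : Fin n} (hp : p ≠ 0) (hq : q ≠ 0) (hpq : p ≠ q)
    (hf : ∀ y ∈ YG ε {p, q}, (∀ w ∈ UG V ε {p, q}, y * w * y⁻¹ * w⁻¹ ∈ VG ε {p, q}) →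
      y ∈ centralizer (UG V ε {p, q} : Set G)) :
    ∃ T : Subgroup G, GSw (YG ε {p, q}) (UG V ε {p, q}) (VG ε {p, q}) T (o2 (centralizer (V : Set G))) (zz ε p) := by
  have hn3 := h.n3
  obtain ⟨T, hTY, hTN, hT2, hTs⟩ := h.syl p q hpq hp hq
  have hUW := h.UG_le hpq hp hq
  have hVU : V ≤ UG V ε {p, q} := le_Cl _ _
  have hz : zz ε p * zz ε q ∈ VG ε {p, q} := by
    rw [zz, zz, ← h.ev.add, mem_VG_iff h.ev]
    exact single_add_cst hpq
  have hTθ : ∀ t ∈ YG ε {p, q}, t ∈ normalizer (V : Set G) → t * zz ε p * t⁻¹ * (zz ε p)⁻¹ ∈ VG ε {p, q} := by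
    intro t ht htN
    rcases one_or_swap hn3 h.ev hpq ht htN with h1 | h1
    · have h2 := mem_centralizer_iff.1 h1 _ (h.ev.mem (Pi.single p 1))
      change t * ε (Pi.single p 1) * t⁻¹ * (ε (Pi.single p 1))⁻¹ ∈ _
      rw [← h2, mul_inv_cancel_right, mul_inv_cancel]
      exact one_mem _
    · have h2 := h1.single p
      rw [Equiv.swap_apply_left] at h2
      change t * ε (Pi.single p 1) * t⁻¹ * (ε (Pi.single p 1))⁻¹ ∈ _
      rw [h2, h.ev.inv, h.ev.comm]
      exact hz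
  refine ⟨T,
    { kY := h.kg p q hpq hp hq
      WY := le_normalizer_Cl _ _
      Wc := fun a ha b hb => h.Wc a (hUW ha) b (hUW hb)
      Ws := fun a ha => h.Ws a (hUW ha)
      RW := (VG_le h.ev _).trans hVU
      RY := le_rfl
      faith := hf
      TY := hTY
      T2 := hT2
      syl := hTs
      fixT := fun w hw hf => h.fixT hp hq hpq hTY hTN hT2 hTs hw hf
      θW := hVU (h.ev.mem _)
      θR := zz_notMem h.ev hpq
      Tθ := fun t ht => hTθ t (hTY ht) (hTN ht)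
      gen := ?_
      OY := (o2_le _).trans (centralizer_le_YG h.ev _)
      O2 := o2_isPGroup _
      Oθ := fun o ho => hTθ o (centralizer_le_YG h.ev _ (o2_le _ ho)) (centralizer_le_normalizer _ (o2_le _ ho))
      On := fun y hy h1 => norm_o2 (norm_cent (norm_of_zz h.ev hpq hy h1)) }⟩
  intro U hRU hU
  rw [UG, Cl, closure_le]
  rintro _ ⟨g, hg, v, hv, rfl⟩
  have hcV : ∀ u ∈ VG ε {p, q}, g * u * g⁻¹ = u := by
    intro u hu
    have h2 := mem_centralizer_iff.1 hg u hu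
    rw [← h2, mul_inv_cancel_right]
  rcases mem_VG_or h.ev hpq hv with h2 | h2
  · rw [hcV v h2]
    exact hRU h2
  · have h4 : g * v * g⁻¹ = (g * (v * zz ε p) * g⁻¹) * (g * zz ε p * g⁻¹)⁻¹ := by group
    rw [h4, hcV _ h2]
    exact mul_mem (hRU h2) (inv_mem (hU g hg))

/-- `GAt.m1` -/
theorem Fr.gm1 [Finite G] (h : Fr V W ε Q) {p q : Fin n} (hp : p ≠ 0) (hq : q ≠ 0) (hpq : p ≠ q) (hA : A ≤ Q p)
    (hc : Co W A Q p q) : ∀ a ∈ A, ∀ y ∈ YG ε {p, q},
      a * (y * zz ε p * y⁻¹) * a⁻¹ * (y * zz ε p * y⁻¹)⁻¹ ∈ VG ε {p, q} →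
      a * (y * zz ε p * y⁻¹) * a⁻¹ = y * zz ε p * y⁻¹ := by
  intro a ha y hy h1
  have haY : a ∈ YG ε {p, q} := centralizer_le_YG h.ev _ (h.QV p (hA ha))
  have hbY : y⁻¹ * a * y ∈ YG ε {p, q} := mul_mem (mul_mem (inv_mem hy) haY) hy
  have h2 : (y⁻¹ * a * y) * zz ε p * (y⁻¹ * a * y)⁻¹ * (zz ε p)⁻¹ ∈ VG ε {p, q} := by
    have h3 := mem_centralizer_iff.1 (inv_mem hy) _ h1
    have h4 : (y⁻¹ * a * y) * zz ε p * (y⁻¹ * a * y)⁻¹ * (zz ε p)⁻¹ =
        y⁻¹ * (a * (y * zz ε p * y⁻¹) * a⁻¹ * (y * zz ε p * y⁻¹)⁻¹) * y := by group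
    rw [h4, ← h3, inv_mul_cancel_right]
    exact h1
  have h5 := h.m1 hp hq hpq hA hc hy ha (norm_of_zz h.ev hpq hbY h2)
  have h6 := mem_centralizer_iff.1 h5 _ (h.ev.mem (Pi.single p 1))
  change zz ε p * (y⁻¹ * a * y) = (y⁻¹ * a * y) * zz ε p at h6
  calc a * (y * zz ε p * y⁻¹) * a⁻¹ = y * ((y⁻¹ * a * y) * zz ε p) * y⁻¹ * a⁻¹ := by group
    _ = y * (zz ε p * (y⁻¹ * a * y)) * y⁻¹ * a⁻¹ := by rw [h6]
    _ = y * zz ε p * y⁻¹ := by group

end Cfsg.Agent.Omega.NO3S.SN.ROne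

end
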